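import Cfsg.Agent.Lib.Bender.Setup

/-!
# The commuting case with an even action on the involutions: the data

`Torus H S R x s`: the involutions of `H` commute, `x` is a second point, the two-point stabilizer is
`S ⊔ R` with `S` regular on the involutions of `H` and `R` of prime order `s` fixing exactly one of
them.  The contradiction is in `Full/Hole/Main.lean`.
-/

set_option autoImplicit false

namespace CfsgLib.Bender.Full.Hole

open Subgroup MulAction

universe u

/-- The base point. -/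
abbrev pt {G : Type u} [Group G] (H : Subgroup G) : G ⧸ H := ((1 : G) : G ⧸ H)

/-- The data of the last case. -/
structure Torus {G : Type u} [Group G] (H S R : Subgroup G) (x : G ⧸ H) (s : ℕ) : Prop where
  se : Cfsg.IsStronglyEmbedded H
  comm : ∀ u ∈ H, ∀ v ∈ H, orderOf u = 2 → orderOf v = 2 → Commute u v
  ne : x ≠ pt H
  prime : s.Prime
  odd : s ≠ 2
  trans : ∀ y z : G ⧸ H, y ≠ pt H → z ≠ pt H → ∃ h ∈ H, h • y = z
  pairEq : stabilizer G (pt H) ⊓ stabilizer G x = S ⊔ R
  cardS : Nat.card S = 2 ^ s - 1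
  numS : CfsgLib.Bender.numInv H = Nat.card S
  regS : ∀ u ∈ H, ∀ v ∈ H, orderOf u = 2 → orderOf v = 2 → ∃! a, a ∈ S ∧ a * u * a⁻¹ = v
  cardR : Nat.card R = s
  normR : R ≤ normalizer (S : Set G)
  lonely : ∃ t ∈ H, orderOf t = 2 ∧ ∀ r ∈ R, Commute r t ∧
    (r ≠ 1 → ∀ u ∈ H, orderOf u = 2 → Commute r u → u = t)
  fix : ∀ a ∈ S, a ≠ 1 → ∀ z : G ⧸ H, a • z = z → z = pt H ∨ z = x
  cent : ∀ a ∈ S, a ≠ 1 → centralizer ({a} : Set G) = S
  inv : ∀ v : G, orderOf v = 2 → v • pt H = x → ∀ a ∈ S, v * a * v⁻¹ = a⁻¹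

end CfsgLib.Bender.Full.Hole
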