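import Mathlib

/-!
# The arithmetic of the last case

`x i`, `b i`, `a i` are the coefficient, the value on `S` and the value on the involutions of a
non-exceptional constituent of the induced character; `x0`, `b0`, `a0` those of the exceptional ones,
of which there are `k`.
-/

set_option autoImplicit false

namespace CfsgLib.Bender.Full.Hole

open Finset

private theorem sum_sq_le {ι : Type*} (t : Finset ι) (f : ι → ℤ) (h : ∀ i ∈ t, 0 ≤ f i) :
    ∑ i ∈ t, f i ^ 2 ≤ (∑ i ∈ t, f i) ^ 2 := by
  rw [sq (∑ i ∈ t, f i), Finset.sum_mul]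
  exact Finset.sum_le_sum fun i hi => by
    rw [sq]; exact mul_le_mul_of_nonneg_left (Finset.single_le_sum h hi) (h i hi)

/-- The bound on the constituents whose congruence is an equality, given the others. -/
private theorem small_part {ι : Type*} [Fintype ι] (x a b j : ι → ℤ) (m B J : ℤ)
    (hx : ∀ i, 1 ≤ x i) (ha : ∀ i, 1 ≤ a i) (hj : ∀ i, 2 * a i = b i + j i * m) (hj0 : ∀ i, 0 ≤ j i)
    (hJ : ∑ i, x i * j i = J) (hB0 : 0 ≤ B) (hB : ∀ i, |b i| ≤ B) :
    ∃ Y : ℤ, 0 ≤ Y ∧ 2 * Y ≤ ∑ i, x i * b i + B * J ∧ ∑ i, x i ^ 2 ≤ J ^ 2 + Y ^ 2 := by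
  classical
  set s0 := univ.filter fun i => j i = 0
  set s1 := univ.filter fun i => ¬ j i = 0
  have hsplit : ∀ f : ι → ℤ, ∑ i ∈ s0, f i + ∑ i ∈ s1, f i = ∑ i, f i := fun f =>
    Finset.sum_filter_add_sum_filter_not _ _ _
  have hJ1 : ∑ i ∈ s1, x i ≤ J := by
    rw [← hJ]
    refine le_trans (Finset.sum_le_sum fun i hi => ?_)
      (Finset.sum_le_sum_of_subset_of_nonneg (Finset.subset_univ s1) fun i _ _ =>
        mul_nonneg (by linarith [hx i]) (hj0 i))
    refine le_mul_of_one_le_right (by linarith [hx i]) ?_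
    have := (Finset.mem_filter.1 hi).2
    have := hj0 i
    omega
  have hS1 : 0 ≤ ∑ i ∈ s1, x i := Finset.sum_nonneg fun i _ => by linarith [hx i]
  refine ⟨∑ i ∈ s0, x i, Finset.sum_nonneg fun i _ => by linarith [hx i], ?_, ?_⟩
  · have h0 : 2 * ∑ i ∈ s0, x i ≤ ∑ i ∈ s0, x i * b i := by
      rw [Finset.mul_sum]
      refine Finset.sum_le_sum fun i hi => ?_
      have e := hj i
      rw [(Finset.mem_filter.1 hi).2, zero_mul, add_zero] at e
      rw [← e]
      nlinarith [hx i, ha i]
    have h1 : -(B * ∑ i ∈ s1, x i) ≤ ∑ i ∈ s1, x i * b i := by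
      rw [Finset.mul_sum, ← Finset.sum_neg_distrib]
      refine Finset.sum_le_sum fun i _ => ?_
      nlinarith [hx i, (abs_le.1 (hB i)).1]
    have h2 : B * ∑ i ∈ s1, x i ≤ B * J := mul_le_mul_of_nonneg_left hJ1 hB0
    linarith [hsplit fun i => x i * b i]
  · rw [← hsplit fun i => x i ^ 2, add_comm (J ^ 2)]
    refine add_le_add (sum_sq_le _ _ fun i _ => by linarith [hx i]) ?_
    exact (sum_sq_le _ _ fun i _ => by linarith [hx i]).trans (pow_le_pow_left₀ hS1 hJ1 2)

/-- No distribution of constituents exists for primes at least five. -/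
theorem arith_five {ι : Type*} [Fintype ι] (x a b : ι → ℤ) (s k m x0 a0 b0 ε : ℤ)
    (hs : 5 ≤ s) (hm : m = 2 * s * k + 1) (hk : 3 ≤ k) (hk5 : s = 5 → k = 3)
    (hk6 : 6 ≤ s → s - 1 ≤ k) (hε : ε = 1 ∨ ε = -1)
    (hx : ∀ i, 1 ≤ x i) (ha : ∀ i, 1 ≤ a i) (hj : ∀ i, ∃ j, 2 * a i = b i + j * m)
    (hx0 : 0 ≤ x0) (ha0 : x0 ≠ 0 → 1 ≤ a0 ∧ ∃ j, 2 * a0 = b0 + ε * (2 * s) + j * m)
    (hbud : ∑ i, b i ^ 2 + k * b0 ^ 2 + 2 ≤ 2 * s + 2 * ε * b0)
    (hA : ∑ i, x i * a i + k * x0 * a0 = m - 1)
    (hB : ∑ i, x i * b i + k * x0 * b0 - ε * x0 = -2)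
    (hQ : ∑ i, x i ^ 2 + k * x0 ^ 2 = 2 * k + 1) : False := by
  classical
  have hP : 0 ≤ k * b0 ^ 2 - 2 * ε * b0 := by
    rcases le_or_gt b0 (-1) with h | h
    · rcases hε with rfl | rfl <;> nlinarith
    rcases eq_or_ne b0 0 with h0 | h0
    · simp [h0]
    · rcases hε with rfl | rfl <;> nlinarith [show (1 : ℤ) ≤ b0 by omega]
  have hxa : ∀ i, 0 ≤ x i * a i := fun i => mul_nonneg (by linarith [hx i]) (by linarith [ha i])
  have hxs : 0 ≤ ∑ i, x i * a i := Finset.sum_nonneg fun i _ => hxa i
  have hthe : 0 ≤ k * x0 * a0 := by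
    rcases eq_or_ne x0 0 with h | h
    · simp [h]
    · exact mul_nonneg (mul_nonneg (by linarith) hx0) (by linarith [(ha0 h).1])
  have hm6 : 6 * s + 1 ≤ m := by nlinarith
  have hb2 : ∀ i, b i ^ 2 ≤ 2 * s - 2 := fun i => by
    have := Finset.single_le_sum (f := fun i => b i ^ 2) (fun _ _ => sq_nonneg _) (Finset.mem_univ i)
    linarith
  choose j hj' using hj
  have hjr : ∀ i, 0 ≤ j i ∧ j i ≤ 2 ∧ b i ≠ 0 := by
    intro i
    have h1 : a i ≤ m - 1 := by
      have h2 := Finset.single_le_sum (f := fun i => x i * a i) (fun i _ => hxa i) (Finset.mem_univ i)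
      nlinarith [hx i, ha i]
    have hb : -s < b i ∧ b i < s := by
      constructor <;> nlinarith [hb2 i]
    have hlo : 0 ≤ j i := by
      by_contra h
      nlinarith [hj' i, ha i, show j i ≤ -1 by omega]
    have hhi : j i ≤ 2 := by
      by_contra h
      nlinarith [hj' i, show 3 ≤ j i by omega]
    refine ⟨hlo, hhi, fun h0 => ?_⟩
    have e := hj' i
    rw [h0, zero_add] at e
    have := ha i
    obtain ⟨q, hq⟩ : ∃ q, m = 2 * q + 1 := ⟨s * k, by rw [hm]; ring⟩
    interval_cases h : j i <;> omega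
  have hJ : 2 * ∑ i, x i * a i = ∑ i, x i * b i + m * ∑ i, x i * j i := by
    rw [Finset.mul_sum, Finset.mul_sum, ← Finset.sum_add_distrib]
    exact Finset.sum_congr rfl fun i _ => by linear_combination x i * hj' i
  obtain ⟨B, hB1, hBb, hB2⟩ : ∃ B : ℤ, 1 ≤ B ∧ (∀ i, |b i| ≤ B) ∧ B ^ 2 ≤ 2 * s - 2 := by
    rcases isEmpty_or_nonempty ι with h | h
    · exact ⟨1, le_rfl, fun i => isEmptyElim i, by linarith⟩
    · obtain ⟨i, -, hi⟩ := Finset.exists_max_image univ (fun i => |b i|) univ_nonempty
      exact ⟨|b i|, Int.one_le_abs (hjr i).2.2, fun l => hi l (Finset.mem_univ l), by rw [sq_abs]; exact hb2 i⟩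
  have hempty : ∑ i, x i * a i = 0 → IsEmpty ι := fun h => ⟨fun i => by
    have h1 := (Finset.sum_eq_zero_iff_of_nonneg fun i _ => hxa i).1 h i (Finset.mem_univ i)
    nlinarith [hx i, ha i]⟩
  rcases eq_or_ne x0 0 with h0 | h0
  · subst h0
    simp only [mul_zero, zero_mul, add_zero, sub_zero, zero_pow (two_ne_zero)] at hA hB hQ
    have hJ2 : ∑ i, x i * j i = 2 := by
      refine mul_left_cancel₀ (show m ≠ 0 by linarith) ?_
      linarith
    obtain ⟨Y, hY0, hY, hY2⟩ := small_part x a b j m B 2 hx ha hj' (fun i => (hjr i).1) hJ2 (by linarith) hBb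
    have hY1 : Y ≤ B - 1 := by linarith
    have hY3 : Y ^ 2 ≤ (B - 1) ^ 2 := pow_le_pow_left₀ hY0 hY1 2
    rcases le_or_gt B 2 with hB' | hB'
    · nlinarith
    · have := hk6 (by nlinarith)
      nlinarith
  · obtain ⟨ha1, l, hl⟩ := ha0 h0
    have hx1 : 1 ≤ x0 := by omega
    have hxa0 : x0 * a0 ≤ 2 * s := by
      refine le_of_mul_le_mul_left ?_ (show 0 < k by linarith)
      linarith
    have ha2 : a0 ≤ 2 * s := by nlinarith
    have hb0 : -2 ≤ b0 ∧ b0 ≤ 2 := by
      have hbk : k * b0 ^ 2 - 2 * ε * b0 ≤ 2 * s - 2 := by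
        linarith [Finset.sum_nonneg fun i (_ : i ∈ univ) => sq_nonneg (b i)]
      have hks : 3 * s ≤ 5 * k := by
        rcases eq_or_lt_of_le hs with h | h
        · rw [hk5 h.symm, ← h]; norm_num
        · linarith [hk6 (by omega)]
      constructor
      · by_contra h
        rcases hε with rfl | rfl <;> nlinarith [mul_nonneg (show 0 ≤ -b0 - 3 by omega)
          (show (0 : ℤ) ≤ k * (-b0 + 3) - 2 by nlinarith [show b0 ≤ -3 by omega])]
      · by_contra h
        rcases hε with rfl | rfl <;> nlinarith [mul_nonneg (show 0 ≤ b0 - 3 by omega)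
          (show (0 : ℤ) ≤ k * (b0 + 3) - 2 by nlinarith [show 3 ≤ b0 by omega])]
    have hlo : 0 ≤ l := by
      by_contra h
      rcases hε with rfl | rfl <;> nlinarith [show l ≤ -1 by omega]
    have hhi : l ≤ 1 := by
      by_contra h
      rcases hε with rfl | rfl <;> nlinarith [show 2 ≤ l by omega]
    rcases eq_or_lt_of_le hlo with hl0 | hl1
    · -- no multiple of `m`
      subst hl0
      rcases hε with rfl | rfl
      · have hb : b0 = -2 ∨ b0 = 0 ∨ b0 = 2 := by omega
        have hsum := Finset.sum_nonneg fun i (_ : i ∈ univ) => sq_nonneg (b i)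
        rcases hb with rfl | rfl | rfl
        · rcases eq_or_lt_of_le hs with h | h
          · subst h; rw [hk5 rfl] at hbud; linarith
          · linarith [hk6 (by omega)]
        · have haS : a0 = s := by linarith
          subst haS
          simp only [mul_zero, add_zero] at hB
          have hx2 : x0 ≤ 2 := le_of_mul_le_mul_right (by linarith) (show 0 < a0 by linarith)
          interval_cases x0
          · have hJ1 : ∑ i, x i * j i = 1 := by
              refine mul_left_cancel₀ (show m ≠ 0 by linarith) ?_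
              linarith
            obtain ⟨Y, hY0, hY, hY2⟩ :=
              small_part x a b j m B 1 hx ha hj' (fun i => (hjr i).1) hJ1 (by linarith) hBb
            have hY1 : 2 * Y ≤ B - 1 := by linarith
            rcases le_or_gt B 2 with hB' | hB'
            · have : Y = 0 := by omega
              subst this
              linarith
            · have := hk6 (by nlinarith)
              have hY3 : (2 * Y) ^ 2 ≤ (B - 1) ^ 2 := pow_le_pow_left₀ (by linarith) hY1 2
              nlinarith
          · haveI := hempty (by linarith)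
            rw [Finset.sum_eq_zero fun i _ => isEmptyElim i] at hQ
            omega
        · rcases eq_or_lt_of_le hs with h | h
          · subst h
            rw [hk5 rfl] at hbud hA
            haveI : IsEmpty ι := ⟨fun i => (hjr i).2.2 (by
              have := (Finset.sum_eq_zero_iff_of_nonneg fun i _ => sq_nonneg (b i)).1 (by linarith) i
                (Finset.mem_univ i)
              simpa using this)⟩
            rw [Finset.sum_eq_zero fun i _ => isEmptyElim i, hm, hk5 rfl] at hA
            have : a0 = 6 := by linarith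
            subst this
            omega
          · linarith [hk6 (by omega)]
      · linarith
    · have hl1' : l = 1 := by omega
      subst hl1'
      rcases eq_or_lt_of_le hs with h | h
      · subst h
        have hk3 := hk5 rfl
        subst hk3
        norm_num at hm
        subst hm
        rcases hε with rfl | rfl
        · linarith
        · have : b0 = -1 ∧ a0 = 10 := by omega
          obtain ⟨rfl, rfl⟩ := this
          have hx3 : x0 = 1 := by omega
          subst hx3
          haveI := hempty (by linarith)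
          rw [Finset.sum_eq_zero fun i _ => isEmptyElim i] at hQ
          omega
      · have := hk6 (by omega)
        rcases hε with rfl | rfl <;> nlinarith

/-- No distribution of constituents exists for three. -/
theorem arith_three {ι : Type*} [Fintype ι] (x a b : ι → ℤ) (hx : ∀ i, 1 ≤ x i) (ha : ∀ i, 1 ≤ a i)
    (hj : ∀ i, ∃ j, 2 * a i = b i + j * 7) (hbud : ∑ i, b i ^ 2 ≤ 5)
    (hA : ∑ i, x i * a i = 6) (hB : ∑ i, x i * b i = -2) (hQ : ∑ i, x i ^ 2 = 3) : False := by
  classical
  have hb : ∀ i, -2 ≤ b i ∧ b i ≤ 2 := fun i => by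
    have := Finset.single_le_sum (f := fun i => b i ^ 2) (fun _ _ => sq_nonneg _) (Finset.mem_univ i)
    constructor <;> nlinarith
  have hx1 : ∀ i, x i = 1 := fun i => by
    have := Finset.single_le_sum (f := fun i => x i ^ 2) (fun _ _ => sq_nonneg _) (Finset.mem_univ i)
    have := hx i
    nlinarith
  simp only [hx1, one_mul, one_pow, Finset.sum_const, Finset.card_univ, nsmul_eq_mul, mul_one] at hA hB hQ
  choose j hj' using hj
  have hai : ∀ i, a i ≤ 6 := fun i => by
    rw [← hA]
    exact Finset.single_le_sum (f := a) (fun l _ => by linarith [ha l]) (Finset.mem_univ i)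
  have hb0 : ∀ i, 1 ≤ b i ^ 2 := fun i => by
    have hne : b i ≠ 0 := fun h => by
      have := hj' i
      have := ha i
      have := hai i
      omega
    nlinarith [Int.one_le_abs hne, sq_abs (b i)]
  have hj0 : ∀ i, 0 ≤ j i := fun i => by
    have := hj' i; have := ha i; have := hb i
    omega
  have hJ : ∑ i, j i = 2 := by
    have h : ∑ i, 2 * a i = ∑ i, (b i + j i * 7) := Finset.sum_congr rfl fun i _ => hj' i
    rw [← Finset.mul_sum, Finset.sum_add_distrib, ← Finset.sum_mul, hA, hB] at h
    omega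
  obtain ⟨i, hi⟩ : ∃ i, j i = 0 := by
    by_contra hcon
    push Not at hcon
    have : ∑ _i : ι, (1 : ℤ) ≤ ∑ i, j i := Finset.sum_le_sum fun i _ => by
      have := hcon i; have := hj0 i; omega
    rw [Finset.sum_const, Finset.card_univ, nsmul_eq_mul, mul_one, hJ] at this
    omega
  have hbi : 4 ≤ b i ^ 2 := by
    have e := hj' i
    rw [hi] at e
    nlinarith [ha i]
  have h : ∑ l ∈ univ.erase i, (1 : ℤ) + 4 ≤ ∑ l, b l ^ 2 := by
    rw [← Finset.sum_erase_add _ _ (Finset.mem_univ i)]
    exact add_le_add (Finset.sum_le_sum fun l _ => hb0 l) hbi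
  rw [Finset.sum_const, Finset.card_erase_of_mem (Finset.mem_univ i), Finset.card_univ, nsmul_eq_mul,
    mul_one, Nat.cast_sub (Fintype.card_pos_iff.2 ⟨i⟩), Nat.cast_one] at h
  linarith

end CfsgLib.Bender.Full.Hole
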