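import Cfsg.Agent.Lib.Bender.Full.Hole.Facts
import Cfsg.Agent.Lib.Char.Perm

/-!
# The action on the involutions of `H` and its reduced permutation character
-/

set_option autoImplicit false
set_option linter.unusedSectionVars false
set_option linter.style.haveILetI false

namespace CfsgLib.Bender.Full.Hole

open scoped ComplexConjugate
open Cfsg CfsgLib.Char Subgroup
open CfsgLib.Invol (invol_conj)

universe u

variable {G : Type u} [Group G]

/-- The involutions of `H`. -/
abbrev Jv (H : Subgroup G) : Type u := {u : G // u ∈ H ∧ orderOf u = 2}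

instance invAction (H : Subgroup G) : MulAction H (Jv H) where
  smul h u := ⟨(h : G) * u * (h : G)⁻¹, mul_mem (mul_mem h.2 u.2.1) (inv_mem h.2), invol_conj u.2.2 _⟩
  one_smul u := Subtype.ext (by show (1 : G) * u * (1 : G)⁻¹ = u; group)
  mul_smul a b u := Subtype.ext (by
    show (a : G) * b * u * ((a : G) * b)⁻¹ = a * (b * u * (b : G)⁻¹) * (a : G)⁻¹
    group)

theorem smul_val {H : Subgroup G} (h : H) (u : Jv H) :
    ((h • u : Jv H) : G) = (h : G) * u * (h : G)⁻¹ := rfl

theorem smul_eq_iff {H : Subgroup G} (h : H) (u : Jv H) : h • u = u ↔ Commute (h : G) u := by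
  rw [Subtype.ext_iff, smul_val, mul_inv_eq_iff_eq_mul]
  rfl

/-- The reduced permutation character on the involutions. -/
noncomputable def eta (H : Subgroup G) : H → ℂ := fun h => permChar H (Jv H) h - 1

variable [Finite G] {H S R : Subgroup G} {x : G ⧸ H} {s : ℕ}

theorem isClassFunction_eta (H : Subgroup G) : IsClassFunction H (eta H) := fun a b => by
  simp only [eta, isClassFunction_of_isCharacter (isCharacter_permChar (Jv H)) a b]

theorem conj_eta (H : Subgroup G) (h : H) : conj (eta H h) = eta H h := by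
  rw [eta, map_sub, conj_permChar, map_one]

namespace Torus

variable (T : Torus H S R x s)
include T

theorem card_Jv : Nat.card (Jv H) = Nat.card S := by
  rw [← T.numS, CfsgLib.Bender.numInv]
  exact Nat.card_congr (Equiv.subtypeEquivRight fun _ => and_comm)

theorem pretransitive : MulAction.IsPretransitive H (Jv H) := ⟨fun u v => by
  obtain ⟨a, ⟨ha, e⟩, -⟩ := T.regS u u.2.1 v v.2.1 u.2.2 v.2.2
  exact ⟨⟨a, T.S_le_H ha⟩, Subtype.ext e⟩⟩

theorem eta_of_cent (h : H) (hc : ∀ u ∈ H, orderOf u = 2 → Commute (h : G) u) :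
    eta H h = (Nat.card S : ℂ) - 1 := by
  rw [eta, permChar, ← T.card_Jv]
  congr 2
  exact Nat.card_congr (Equiv.subtypeUnivEquiv fun u => (smul_eq_iff h u).2 (hc u u.2.1 u.2.2))

theorem eta_one : eta H 1 = (Nat.card S : ℂ) - 1 :=
  T.eta_of_cent 1 fun u _ _ => by rw [OneMemClass.coe_one]; exact Commute.one_left u

theorem eta_S (h : H) (hS : (h : G) ∈ S) (h1 : h ≠ 1) : eta H h = -1 := by
  have : IsEmpty (MulAction.fixedBy (Jv H) h) := ⟨fun u =>
    T.not_commute_S hS (fun e => h1 (Subtype.ext e)) u.1.2.1 u.1.2.2 ((smul_eq_iff h u.1).1 u.2)⟩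
  rw [eta, permChar, Nat.card_of_isEmpty, Nat.cast_zero, zero_sub]

theorem eta_outer (h : H) (hD : (h : G) ∈ S ⊔ R) (hS : (h : G) ∉ S) : eta H h = 0 := by
  obtain ⟨u, ⟨hu, huo, hc⟩, huniq⟩ := T.fix_outer hD hS
  have e : Nat.card (MulAction.fixedBy (Jv H) h) = 1 := Nat.card_eq_one_iff_exists.2
    ⟨⟨⟨u, hu, huo⟩, (smul_eq_iff h _).2 hc⟩, fun v =>
      Subtype.ext (Subtype.ext (huniq _ v.1.2.1 v.1.2.2 ((smul_eq_iff h v.1).1 v.2)))⟩
  rw [eta, permChar, e, Nat.cast_one, sub_self]

theorem classInner_perm_one [Fintype H] :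
    classInner (permChar H (Jv H)) (fun _ => 1) = 1 := by
  haveI := T.pretransitive
  obtain ⟨t, ht, hto, -⟩ := T.lonely
  haveI : Nonempty (Jv H) := ⟨⟨t, ht, hto⟩⟩
  haveI : Subsingleton (MulAction.orbitRel.Quotient H (Jv H)) :=
    (MulAction.pretransitive_iff_subsingleton_quotient H (Jv H)).1 inferInstance
  rw [classInner_permChar_one, Nat.card_of_subsingleton (Quotient.mk _ (Classical.arbitrary (Jv H))),
    Nat.cast_one]

theorem isCharacter_eta : IsCharacter H (eta H) := by
  haveI := Fintype.ofFinite H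
  refine isCharacter_of_nat_inner (isClassFunction_eta H) fun ψ => ?_
  rw [show eta H = permChar H (Jv H) - (fun _ => 1) from rfl, classInner_sub_left]
  by_cases he : (ψ : H → ℂ) = fun _ => 1
  · refine ⟨0, ?_⟩
    have h11 : classInner (fun _ : H => (1 : ℂ)) (fun _ : H => (1 : ℂ)) = 1 :=
      classInner_irr_self ⟨_, isIrrCharacter_one⟩
    rw [he, T.classInner_perm_one, h11, sub_self, Nat.cast_zero]
  · have h0 : classInner (fun _ : H => (1 : ℂ)) (ψ : H → ℂ) = 0 :=
      classInner_irr_ne (χ := ⟨fun _ => 1, isIrrCharacter_one⟩) fun e => he (congrArg Subtype.val e).symm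
    rw [h0, sub_zero]
    exact classInner_char_irr_nat (isCharacter_permChar (Jv H)) ψ

end Torus

end CfsgLib.Bender.Full.Hole
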