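import Cfsg.Agent.Lib.Bender.Full.Hole.Torus
import Cfsg.Agent.Lib.ProdFusion.Basic

/-!
# The commuting case with an even action on the involutions: elementary consequences
-/

set_option autoImplicit false
set_option linter.style.haveILetI false
set_option linter.unusedSectionVars false

namespace CfsgLib.Bender.Full.Hole

open Subgroup MulAction
open CfsgLib.Invol (invol_mul_self invol_inv invol_smul_smul invol_conj fixed_one_iff)

universe u

variable {G : Type u} [Group G] {H S R : Subgroup G} {x : G ⧸ H} {s : ℕ}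

theorem smul_pt [Finite G] {g : G} : g • pt H = pt H ↔ g ∈ H := fixed_one_iff

theorem stabilizer_pt [Finite G] : stabilizer G (pt H) = H := by
  ext g
  exact mem_stabilizer_iff.trans smul_pt

namespace Torus

variable [Finite G] (T : Torus H S R x s)
include T

theorem three_le : 3 ≤ s := by
  have h2 := T.prime.two_le
  have hne := T.odd
  omega

theorem seven_le : 7 ≤ Nat.card S := by
  have h := Nat.pow_le_pow_right (show 0 < 2 by norm_num) T.three_le
  rw [T.cardS]
  omega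

theorem odd_card_S : Odd (Nat.card S) := by
  have h : 2 ∣ 2 ^ s := dvd_pow_self 2 T.prime.ne_zero
  have h7 := T.seven_le
  rw [T.cardS] at h7 ⊢
  rw [Nat.odd_iff]
  omega

theorem comm_S {a b : G} (ha : a ∈ S) (hb : b ∈ S) : a * b = b * a := by
  by_cases h : a = 1
  · rw [h, one_mul, mul_one]
  · rw [← T.cent a ha h] at hb
    exact (mem_centralizer_singleton_iff.1 hb).symm

theorem D_le {y : G} (hy : y ∈ S ⊔ R) : y ∈ H ∧ y • x = x := by
  rw [← T.pairEq] at hy
  exact ⟨by rw [← stabilizer_pt (H := H)]; exact hy.1, mem_stabilizer_iff.1 hy.2⟩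

theorem S_le {a : G} (ha : a ∈ S) : a ∈ H ∧ a • x = x := T.D_le (mem_sup_left ha)

theorem S_le_H : S ≤ H := fun _ ha => (T.S_le ha).1

theorem mem_D {y : G} (hy : y ∈ H) (hyx : y • x = x) : y ∈ S ⊔ R := by
  rw [← T.pairEq]
  exact ⟨by rw [stabilizer_pt]; exact hy, mem_stabilizer_iff.2 hyx⟩

theorem x_moved {g : G} (hg : g ∈ H) : g • x ≠ pt H := fun h =>
  T.ne (smul_left_cancel g (h.trans (smul_pt.2 hg).symm))

theorem not_mem_H {w : G} (hwx : w • pt H = x) : w ∉ H := fun h => T.ne (hwx.symm.trans (smul_pt.2 h))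

theorem not_commute_S {a u : G} (ha : a ∈ S) (ha1 : a ≠ 1) (hu : u ∈ H) (huo : orderOf u = 2) :
    ¬ Commute a u := fun h => by
  obtain ⟨b, -, hb⟩ := T.regS u hu u hu huo huo
  exact ha1 ((hb a ⟨ha, by rw [h.eq, mul_inv_cancel_right]⟩).trans (hb 1 ⟨one_mem _, by simp⟩).symm)

theorem R_inf_S {r : G} (hr : r ∈ R) (hrS : r ∈ S) : r = 1 := by
  by_contra h
  obtain ⟨t, ht, hto, hl⟩ := T.lonely
  exact T.not_commute_S hrS h ht hto (hl r hr).1

theorem commute_S_R {a r : G} (ha : a ∈ S) (hr : r ∈ R) (hr1 : r ≠ 1) (h : Commute a r) : a = 1 := by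
  by_contra ha1
  refine hr1 (T.R_inf_S hr ?_)
  rw [← T.cent a ha ha1]
  exact mem_centralizer_singleton_iff.2 h.symm.eq

theorem exists_mul {y : G} (hy : y ∈ S ⊔ R) : ∃ a ∈ S, ∃ r ∈ R, a * r = y := by
  rw [← SetLike.mem_coe, coe_mul_of_right_le_normalizer_left S R T.normR] at hy
  exact Set.mem_mul.1 hy

theorem S_le_normalizer_D : S ⊔ R ≤ normalizer (S : Set G) := sup_le le_normalizer T.normR

theorem card_D : Nat.card (S ⊔ R : Subgroup G) = Nat.card S * s := by
  rw [← T.cardR, ← Nat.card_prod]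
  symm
  refine Nat.card_congr (Equiv.ofBijective
    (fun p : S × R => (⟨(p.1 : G) * p.2, mul_mem (mem_sup_left p.1.2) (mem_sup_right p.2.2)⟩ :
      (S ⊔ R : Subgroup G))) ⟨fun p q h => ?_, fun y => ?_⟩)
  · have h' : (p.1 : G) * p.2 = q.1 * q.2 := congrArg Subtype.val h
    have h1 : (p.1 : G)⁻¹ * q.1 = p.2 * (q.2 : G)⁻¹ := by
      rw [inv_mul_eq_iff_eq_mul, ← mul_assoc, h', mul_inv_cancel_right]
    have h2 : (p.2 : G) * (q.2 : G)⁻¹ = 1 := T.R_inf_S (mul_mem p.2.2 (inv_mem q.2.2))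
      (h1 ▸ mul_mem (inv_mem p.1.2) q.1.2)
    have e2 : p.2 = q.2 := Subtype.ext (mul_inv_eq_one.1 h2)
    exact Prod.ext (Subtype.ext (mul_right_cancel (b := (p.2 : G)) (by rw [h', e2]))) e2
  · obtain ⟨a, ha, r, hr, e⟩ := T.exists_mul y.2
    exact ⟨(⟨a, ha⟩, ⟨r, hr⟩), Subtype.ext e⟩

theorem odd_orderOf_D {y : G} (hy : y ∈ S ⊔ R) : Odd (orderOf y) := by
  have h := CfsgLib.Bender.odd_pairStab T.se T.ne.symm
  rw [show CfsgLib.Bender.pairStab (pt H) x = S ⊔ R from T.pairEq] at h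
  exact h.of_dvd_nat (Subgroup.orderOf_dvd_natCard _ hy)

/-- Every element of the two-point stabilizer outside `S` is conjugate under `S` to an element of `R`. -/
theorem conj_R {y : G} (hy : y ∈ S ⊔ R) (hyS : y ∉ S) :
    ∃ a ∈ S, ∃ r ∈ R, r ≠ 1 ∧ a * r * a⁻¹ = y := by
  obtain ⟨b, hb, r, hr, rfl⟩ := T.exists_mul hy
  have hr1 : r ≠ 1 := by
    rintro rfl
    exact hyS (by rwa [mul_one])
  have hn : ∀ a ∈ S, r * a * r⁻¹ ∈ S := fun a ha => (mem_normalizer_iff.1 (T.normR hr) a).1 ha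
  let f : S → S := fun a => ⟨(a : G) * (r * (a : G)⁻¹ * r⁻¹), mul_mem a.2 (hn _ (inv_mem a.2))⟩
  have hf : Function.Injective f := by
    intro a a' h
    have h' : (a : G) * (r * (a : G)⁻¹ * r⁻¹) = a' * (r * (a' : G)⁻¹ * r⁻¹) := congrArg Subtype.val h
    have e : Commute ((a' : G)⁻¹ * a) r := by
      have h'' : (a : G) * r * (a : G)⁻¹ = a' * r * (a' : G)⁻¹ := by
        have := congrArg (· * r) h'
        simpa [mul_assoc] using this
      calc (a' : G)⁻¹ * a * r = (a' : G)⁻¹ * (a * r * (a : G)⁻¹) * a := by group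
        _ = (a' : G)⁻¹ * (a' * r * (a' : G)⁻¹) * a := by rw [h'']
        _ = r * ((a' : G)⁻¹ * a) := by group
    exact Subtype.ext (inv_mul_eq_one.1 (T.commute_S_R (mul_mem (inv_mem a'.2) a.2) hr hr1 e)).symm
  obtain ⟨a, ha⟩ := Finite.surjective_of_injective hf ⟨b, hb⟩
  refine ⟨a, a.2, r, hr, hr1, ?_⟩
  have ha' : (a : G) * (r * (a : G)⁻¹ * r⁻¹) = b := congrArg Subtype.val ha
  rw [← ha']
  group

/-- An element of the two-point stabilizer outside `S` fixes exactly one involution of `H`. -/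
theorem fix_outer {y : G} (hy : y ∈ S ⊔ R) (hyS : y ∉ S) :
    ∃ u, (u ∈ H ∧ orderOf u = 2 ∧ Commute y u) ∧
      ∀ u', u' ∈ H → orderOf u' = 2 → Commute y u' → u' = u := by
  obtain ⟨a, ha, r, hr, hr1, rfl⟩ := T.conj_R hy hyS
  obtain ⟨t, ht, hto, hl⟩ := T.lonely
  have haH := T.S_le_H ha
  refine ⟨a * t * a⁻¹, ⟨mul_mem (mul_mem haH ht) (inv_mem haH), invol_conj hto a,
    (hl r hr).1.map (MulAut.conj a).toMonoidHom⟩, fun u hu huo hc => ?_⟩
  have h1 : Commute r (a⁻¹ * u * a) := by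
    have h2 := hc.map (MulAut.conj a⁻¹).toMonoidHom
    simpa [mul_assoc] using h2
  rw [← (hl r hr).2 hr1 _ (mul_mem (mul_mem (inv_mem haH) hu) haH) (by simpa using invol_conj huo a⁻¹) h1]
  group

/-- The two-point stabilizer acts faithfully on the involutions of `H`. -/
theorem eq_one_of_cent {y : G} (hy : y ∈ S ⊔ R)
    (h : ∀ u ∈ H, orderOf u = 2 → Commute y u) : y = 1 := by
  obtain ⟨t, ht, hto, -⟩ := T.lonely
  by_cases hyS : y ∈ S
  · by_contra hy1
    exact T.not_commute_S hyS hy1 ht hto (h t ht hto)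
  · obtain ⟨u, -, huniq⟩ := T.fix_outer hy hyS
    exfalso
    have hS : (⊥ : Subgroup G) < S := bot_lt_iff_ne_bot.2 fun e => by
      have h7 := T.seven_le
      rw [e, card_bot] at h7
      omega
    obtain ⟨a, ha, ha1⟩ := SetLike.exists_of_lt hS
    rw [mem_bot] at ha1
    have haH := T.S_le_H ha
    have hat : a * t * a⁻¹ ∈ H := mul_mem (mul_mem haH ht) (inv_mem haH)
    have e := (huniq t ht hto (h t ht hto)).trans
      (huniq _ hat (invol_conj hto a) (h _ hat (invol_conj hto a))).symm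
    exact T.not_commute_S ha ha1 ht hto (mul_inv_eq_iff_eq_mul.1 e.symm)

theorem exists_swap : ∃ v : G, orderOf v = 2 ∧ v • pt H = x :=
  CfsgLib.Bender.exists_swapper T.se T.ne.symm

theorem mul_swap {v : G} (hv : orderOf v = 2) (hvx : v • pt H = x) {a : G} (ha : a ∈ S) :
    orderOf (a * v) = 2 ∧ (a * v) • pt H = x := by
  refine ⟨CfsgLib.Invol.invol_iff.2 ⟨?_, fun h => ?_⟩, by rw [mul_smul, hvx, (T.S_le ha).2]⟩
  · calc a * v * (a * v) = a * (v * a * v⁻¹) * (v * v) := by group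
      _ = 1 := by rw [T.inv v hv hvx a ha, invol_mul_self hv, mul_inv_cancel, mul_one]
  · exact T.not_mem_H hvx (by rw [eq_inv_of_mul_eq_one_right h]; exact inv_mem (T.S_le_H ha))

/-- The swappers of the two points form one coset of `S`. -/
theorem swap_mem {v w : G} (hv : orderOf v = 2) (hvx : v • pt H = x) (hw : orderOf w = 2)
    (hwx : w • pt H = x) : w * v ∈ S := by
  let f : S → {i : G // orderOf i = 2 ∧ i • pt H = x} := fun a => ⟨(a : G) * v, T.mul_swap hv hvx a.2⟩
  have hf : Function.Injective f := fun a a' h =>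
    Subtype.ext (mul_right_cancel (congrArg Subtype.val h :))
  have hcard : Nat.card {i : G // orderOf i = 2 ∧ i • pt H = x} = Nat.card S := by
    rw [CfsgLib.Invol.card_swap_eq T.se _ _ T.ne.symm, ← T.numS, CfsgLib.Bender.numInv]
  have := (Nat.bijective_iff_injective_and_card f).2 ⟨hf, hcard.symm⟩
  obtain ⟨a, ha⟩ := this.2 ⟨w, hw, hwx⟩
  have hwa : (a : G) * v = w := congrArg Subtype.val ha
  rw [← hwa, mul_assoc, invol_mul_self hv, mul_one]
  exact a.2

theorem exists_ne_one : ∃ a ∈ S, a ≠ (1 : G) := by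
  by_contra hcon
  push Not at hcon
  have h7 := T.seven_le
  rw [show S = ⊥ from (eq_bot_iff_forall S).2 hcon, card_bot] at h7
  omega

theorem mem_normalizer_of_conj {g a : G} (ha : a ∈ S) (ha1 : a ≠ 1) (h : g * a * g⁻¹ ∈ S) :
    g ∈ normalizer (S : Set G) := by
  have h1 : g * a * g⁻¹ ≠ 1 := fun e => ha1 (conj_eq_one_iff.1 e)
  refine CfsgLib.ProdFusion.mem_of_forall_conj_mem fun b hb => ?_
  rw [← T.cent _ h h1, mem_centralizer_singleton_iff]
  rw [show g * b * g⁻¹ * (g * a * g⁻¹) = g * (b * a) * g⁻¹ by group, T.comm_S hb ha]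
  group

/-- The normalizer of `S` permutes the two points. -/
theorem normalizer_cases {g : G} (hg : g ∈ normalizer (S : Set G)) :
    g ∈ S ⊔ R ∨ ∀ v : G, orderOf v = 2 → v • pt H = x → v * g ∈ S ⊔ R := by
  obtain ⟨a, ha, ha1⟩ := T.exists_ne_one
  have hb : g⁻¹ * a * g⁻¹⁻¹ ∈ S := (mem_normalizer_iff.1 (inv_mem hg) a).1 ha
  have hbne : g⁻¹ * a * g⁻¹⁻¹ ≠ 1 := fun e => ha1 (conj_eq_one_iff.1 e)
  have key : ∀ p : G ⧸ H, (g⁻¹ * a * g⁻¹⁻¹) • p = p → g • p = pt H ∨ g • p = x := fun p hp => by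
    refine T.fix a ha ha1 _ ?_
    conv_rhs => rw [← hp]
    simp [smul_smul, mul_assoc]
  have hne : g • pt H ≠ g • x := fun h => T.ne (smul_left_cancel g h).symm
  rcases key _ (smul_pt.2 (T.S_le_H hb)) with e1 | e1
  · refine Or.inl (T.mem_D (smul_pt.1 e1) ?_)
    exact (key _ (T.S_le hb).2).resolve_left fun h => hne (e1.trans h.symm)
  · refine Or.inr fun v hv hvx => T.mem_D (smul_pt.1 ?_) ?_
    · rw [mul_smul, e1, ← hvx, invol_smul_smul hv]
    · have e2 := (key _ (T.S_le hb).2).resolve_right fun h => hne (e1.trans h.symm)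
      rw [mul_smul, e2, hvx]

theorem swap_normalizes {v : G} (hv : orderOf v = 2) (hvx : v • pt H = x) :
    v ∈ normalizer (S : Set G) := by
  refine CfsgLib.ProdFusion.mem_of_forall_conj_mem fun b hb => ?_
  rw [T.inv v hv hvx b hb]
  exact inv_mem hb

theorem card_normalizer : Nat.card (normalizer (S : Set G) : Subgroup G) = 2 * (Nat.card S * s) := by
  obtain ⟨v, hv, hvx⟩ := T.exists_swap
  set N : Subgroup G := normalizer (S : Set G)
  have hDN : S ⊔ R ≤ N := T.S_le_normalizer_D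
  have hvN : v ∈ N := T.swap_normalizes hv hvx
  have hvD : v ∉ S ⊔ R := fun h => T.not_mem_H hvx (T.D_le h).1
  have hidx : ((S ⊔ R).subgroupOf N).index = 2 := by
    refine index_eq_two_iff.2 ⟨⟨v, hvN⟩, fun g => ?_⟩
    simp only [mem_subgroupOf, coe_mul]
    rcases T.normalizer_cases g.2 with h | h
    · refine Or.inr ⟨h, fun h' => hvD ?_⟩
      have := mul_mem (inv_mem h) h'
      simpa using this
    · by_cases hgD : (g : G) ∈ S ⊔ R
      · refine absurd ?_ hvD
        have := mul_mem (h v hv hvx) (inv_mem hgD)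
        simpa using this
      · refine Or.inl ⟨?_, hgD⟩
        have h1 := h v hv hvx
        -- `g * v` is conjugate to `v * g` by `v`
        have h2 : (S ⊔ R : Subgroup G) = stabilizer G (pt H) ⊓ stabilizer G x := T.pairEq.symm
        have hvn := CfsgLib.Bender.mem_normalizer_pairStab hv hvx
        rw [show CfsgLib.Bender.pairStab (pt H) x = S ⊔ R from T.pairEq] at hvn
        have := (mem_normalizer_iff.1 hvn _).1 h1
        simpa [mul_assoc, invol_inv hv, ← mul_assoc v v, invol_mul_self hv] using this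
  have h := ((S ⊔ R).subgroupOf N).card_mul_index
  rw [hidx, Nat.card_congr (subgroupOfEquivOfLe hDN).toEquiv, T.card_D] at h
  rw [← h, mul_comm]

/-- The normalizer of `S` in `H` is the two-point stabilizer. -/
theorem normalizer_inf {g : G} (hg : g ∈ normalizer (S : Set G)) (hgH : g ∈ H) : g ∈ S ⊔ R := by
  rcases T.normalizer_cases hg with h | h
  · exact h
  · obtain ⟨v, hv, hvx⟩ := T.exists_swap
    refine absurd ?_ (T.not_mem_H hvx)
    have := mul_mem (T.D_le (h v hv hvx)).1 (inv_mem hgH)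
    simpa using this

end Torus

end CfsgLib.Bender.Full.Hole
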