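import Cfsg.Agent.Lib.Bender.Full.Hole.Trans
import Cfsg.Agent.Lib.Char.ClassMul

/-!
# The character induced from the reduced permutation character on the involutions of `H`

Its values on the involutions and on `S`, its norm, and the identity forcing each constituent to take
the value `χ 1 / |G : H|` on the involutions.
-/

set_option autoImplicit false
set_option linter.unusedSectionVars false
set_option linter.style.haveILetI false

namespace CfsgLib.Bender.Full.Hole

open scoped ComplexConjugate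
open Cfsg CfsgLib.Char Subgroup MulAction
open CfsgLib.Invol (invol_conj invol_inv invol_mul_self invol_smul_smul fixed_unique)

universe u

variable {G : Type u} [Group G] [Finite G] {H S R : Subgroup G} {x : G ⧸ H} {s : ℕ}

/-- The character induced from the reduced permutation character. -/
noncomputable abbrev indEta (H : Subgroup G) [Fintype G] : G → ℂ := indFun H (eta H)

theorem conj_mem_iff_fixed {g a : G} : g⁻¹ * a * g ∈ H ↔ a • (g • pt H) = g • pt H := by
  rw [← smul_pt, mul_smul, mul_smul, inv_smul_eq_iff]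

theorem ext_conj {l : G} (hl : l ∈ H) (y : G) :
    extendByZero H (eta H) (l⁻¹ * y * l) = extendByZero H (eta H) y := by
  by_cases hy : y ∈ H
  · rw [extendByZero_mem H _ hy, extendByZero_mem H _ (mul_mem (mul_mem (inv_mem hl) hy) hl)]
    rw [← isClassFunction_eta H ⟨y, hy⟩ ⟨l, hl⟩⁻¹]
    exact congrArg _ (Subtype.ext (by simp))
  · rw [extendByZero_not_mem H _ hy, extendByZero_not_mem H _ fun h => hy ?_]
    have := mul_mem (mul_mem hl h) (inv_mem hl)
    simpa [mul_assoc] using this

theorem conj_ext (y : G) : conj (extendByZero H (eta H) y) = extendByZero H (eta H) y := by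
  by_cases hy : y ∈ H
  · rw [extendByZero_mem H _ hy, conj_eta]
  · rw [extendByZero_not_mem H _ hy, map_zero]

open scoped Classical in
theorem sum_ite_mem {K : Type*} [Group K] [Fintype K] (L : Subgroup K) (c : ℂ) :
    ∑ g : K, (if g ∈ L then c else 0) = Nat.card L * c := by
  rw [← Finset.sum_filter, Finset.sum_const, nsmul_eq_mul, Nat.card_eq_fintype_card, Fintype.card_subtype]

namespace Torus

variable (T : Torus H S R x s)
include T

theorem two_le_index : 2 ≤ H.index := by
  haveI : Nontrivial (G ⧸ H) := ⟨⟨x, pt H, T.ne⟩⟩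
  exact Finite.one_lt_card_iff_nontrivial.2 inferInstance

theorem card_H : Nat.card H = (H.index - 1) * (Nat.card S * s) := by
  have horb : orbit H x = ({pt H} : Set (G ⧸ H))ᶜ := by
    ext y
    constructor
    · rintro ⟨h, rfl⟩
      exact T.x_moved h.2
    · intro hy
      obtain ⟨h, hh, e⟩ := T.trans x y T.ne hy
      exact ⟨⟨h, hh⟩, e⟩
  have hst : stabilizer H x = (S ⊔ R).subgroupOf H := by
    ext h
    rw [mem_stabilizer_iff, mem_subgroupOf]
    exact ⟨fun e => T.mem_D h.2 e, fun e => (T.D_le e).2⟩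
  have hi : (stabilizer H x).index = H.index - 1 := by
    rw [index_stabilizer, horb, Set.ncard_compl, Set.ncard_singleton]
    rfl
  have h := (stabilizer H x).card_mul_index
  rw [hi, hst, Nat.card_congr (subgroupOfEquivOfLe fun y hy => (T.D_le hy).1).toEquiv, T.card_D] at h
  rw [← h, mul_comm]

/-- The number of points is two modulo `|S|`. -/
theorem index_mod : ∃ q : ℤ, (H.index : ℤ) = 2 + q * Nat.card S := by
  classical
  haveI := Fintype.ofFinite (G ⧸ H)
  haveI := Fintype.ofFinite S
  haveI := Fintype.ofFinite (orbitRel.Quotient S (G ⧸ H))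
  have h := MulAction.sum_card_fixedBy_eq_card_orbits_mul_card_group S (G ⧸ H)
  simp only [← Nat.card_eq_fintype_card] at h
  have hfix : ∀ a : S, a ≠ 1 → Nat.card (fixedBy (G ⧸ H) a) = 2 := fun a ha => by
    rw [show fixedBy (G ⧸ H) a = ({pt H, x} : Set (G ⧸ H)) from ?_, Nat.card_coe_set_eq,
      Set.ncard_pair T.ne.symm]
    ext y
    constructor
    · intro hy
      exact T.fix (a : G) a.2 (fun e => ha (Subtype.ext e)) y hy
    · rintro (rfl | rfl)
      exacts [smul_pt.2 (T.S_le_H a.2), (T.S_le a.2).2]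
  have hone : Nat.card (fixedBy (G ⧸ H) (1 : S)) = H.index :=
    Nat.card_congr (Equiv.subtypeUnivEquiv fun y => one_smul S y)
  rw [← Finset.add_sum_erase _ _ (Finset.mem_univ (1 : S)), hone,
    Finset.sum_congr rfl fun a ha => hfix a (Finset.mem_erase.1 ha).1, Finset.sum_const,
    Finset.card_erase_of_mem (Finset.mem_univ _), Finset.card_univ, smul_eq_mul,
    ← Nat.card_eq_fintype_card] at h
  refine ⟨(Nat.card (orbitRel.Quotient S (G ⧸ H)) : ℤ) - 2, ?_⟩
  have h7 := T.seven_le
  have h' := congrArg (fun n : ℕ => (n : ℤ)) h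
  simp only [Nat.cast_add, Nat.cast_mul, Nat.cast_sub (show 1 ≤ Nat.card S by omega), Nat.cast_ofNat,
    Nat.cast_one] at h'
  linear_combination h'

theorem eta_invol {h : H} (ho : orderOf (h : G) = 2) : eta H h = (Nat.card S : ℂ) - 1 :=
  T.eta_of_cent h fun u hu huo => T.comm h h.2 u hu ho huo

variable [Fintype G]

theorem indEta_one : indEta H 1 = (H.index : ℂ) * ((Nat.card S : ℂ) - 1) := by
  rw [indEta, indFun_one, T.eta_one]

theorem indEta_invol {t : G} (ht : orderOf t = 2) : indEta H t = (Nat.card S : ℂ) - 1 := by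
  classical
  obtain ⟨t0, ht0, ht0o, -⟩ := T.lonely
  rw [indEta, classFun_isConj (isClassFunction_indFun H _) (CfsgLib.Invol.exists_conj_fixing T.se ht ht0o),
    indFun, Finset.sum_congr rfl (g := fun g => if g ∈ H then ((Nat.card S : ℂ) - 1) else 0) fun g _ => ?_,
    sum_ite_mem, inv_mul_cancel_left₀ (show (Nat.card H : ℂ) ≠ 0 by exact_mod_cast Nat.card_pos.ne')]
  split_ifs with hg
  · rw [extendByZero_mem H _ (mul_mem (mul_mem (inv_mem hg) ht0) hg), T.eta_invol]
    simpa using invol_conj ht0o g⁻¹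
  · refine extendByZero_not_mem H _ fun h => hg (smul_pt.1 ?_)
    exact fixed_unique T.se ht0o (conj_mem_iff_fixed.1 h) (smul_pt.2 ht0)

theorem indEta_S {a : G} (ha : a ∈ S) (ha1 : a ≠ 1) : indEta H a = -2 := by
  classical
  obtain ⟨v, hv, hvx⟩ := T.exists_swap
  have hneg : ∀ b : G, b ∈ S → b ≠ 1 → extendByZero H (eta H) b = -1 := fun b hb hb1 => by
    rw [extendByZero_mem H _ (T.S_le_H hb)]
    exact T.eta_S _ hb fun e => hb1 (congrArg Subtype.val e)
  have hterm : ∀ g : G, extendByZero H (eta H) (g⁻¹ * a * g) =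
      (if g ∈ H then (-1 : ℂ) else 0) + (if v * g ∈ H then (-1 : ℂ) else 0) := by
    intro g
    by_cases h1 : g ∈ H
    · have h2 : v * g ∉ H := fun h2 => T.not_mem_H hvx (by simpa using mul_mem h2 (inv_mem h1))
      rw [if_pos h1, if_neg h2, add_zero, ext_conj h1, hneg a ha ha1]
    · rw [if_neg h1, zero_add]
      split_ifs with h2
      · have e : g⁻¹ * a * g = (v * g)⁻¹ * a⁻¹ * (v * g) := by
          rw [← T.inv v hv hvx a ha, invol_inv hv]
          simp [mul_assoc, ← mul_assoc v v, invol_mul_self hv, invol_inv hv]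
        rw [e, ext_conj h2, hneg _ (inv_mem ha) (inv_ne_one.2 ha1)]
      · refine extendByZero_not_mem H _ fun h => ?_
        rcases T.fix a ha ha1 _ (conj_mem_iff_fixed.1 h) with h3 | h3
        · exact h1 (smul_pt.1 h3)
        · refine h2 (smul_pt.1 ?_)
          rw [mul_smul, h3, ← hvx, invol_smul_smul hv]
  rw [indEta, indFun, Finset.sum_congr rfl fun g _ => hterm g, Finset.sum_add_distrib,
    Fintype.sum_equiv (Equiv.mulLeft v) (fun g => if v * g ∈ H then (-1 : ℂ) else 0)
      (fun g => if g ∈ H then (-1 : ℂ) else 0) (fun g => rfl), sum_ite_mem]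
  field_simp
  norm_num

theorem norm_indEta [Fintype H] (hη : classInner (eta H) (eta H) = 1) :
    (s : ℂ) * classInner (indEta H) (indEta H) = s + ((Nat.card S : ℂ) - 1) := by
  classical
  obtain ⟨v, hv, hvx⟩ := T.exists_swap
  set m : ℂ := (Nat.card S : ℂ)
  set Φ : G → ℂ := fun g => ∑ h : H, eta H h * extendByZero H (eta H) (g⁻¹ * h * g) with hΦ
  have hX : classInner (indEta H) (indEta H) = (Nat.card H : ℂ)⁻¹ * (Nat.card H : ℂ)⁻¹ * ∑ g : G, Φ g := by
    rw [indEta, classInner_indFun H _ _ (isClassFunction_indFun H _), classInner, mul_assoc]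
    congr 1
    simp only [hΦ, indFun, map_mul, map_inv₀, map_natCast, map_sum, conj_ext]
    rw [Finset.sum_comm, Finset.mul_sum]
    refine Finset.sum_congr rfl fun h _ => ?_
    simp only [Finset.mul_sum]
    exact Finset.sum_congr rfl fun g _ => by ring
  have hin : ∀ g ∈ H, Φ g = Nat.card H := fun g hg => by
    rw [hΦ]
    have h1 := hη
    rw [classInner, inv_mul_eq_one₀ (by exact_mod_cast Nat.card_pos.ne')] at h1
    rw [h1]
    refine Finset.sum_congr rfl fun h _ => ?_
    rw [conj_eta, ext_conj hg, extendByZero_mem H _ h.2]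
  have hv2 : Φ v = m * (m - 1) := by
    have hterm : ∀ h : H, eta H h * extendByZero H (eta H) (v⁻¹ * h * v) =
        (if h ∈ S.subgroupOf H then (1 : ℂ) else 0) + (if h = 1 then (m - 1) * (m - 1) - 1 else 0) := by
      intro h
      by_cases hS : (h : G) ∈ S
      · have e : v⁻¹ * h * v = (h : G)⁻¹ := by
          have := T.inv v hv hvx h hS
          rwa [invol_inv hv] at this ⊢
        rw [e, extendByZero_mem H _ (inv_mem h.2), if_pos (mem_subgroupOf.2 hS)]
        by_cases h1 : h = 1
        · subst h1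
          rw [if_pos rfl, T.eta_one, show (⟨((1 : H) : G)⁻¹, inv_mem (1 : H).2⟩ : H) = 1 from
            Subtype.ext (by simp), T.eta_one]
          ring
        · rw [if_neg h1, T.eta_S h hS h1, T.eta_S _ (inv_mem hS) fun e1 => h1 (Subtype.ext ?_)]
          · ring
          · have := congrArg Subtype.val e1
            simpa using this
      · rw [if_neg (fun h' => hS (mem_subgroupOf.1 h')), if_neg (fun e => hS (by rw [e]; exact one_mem S)),
          add_zero]
        by_cases hin : v⁻¹ * (h : G) * v ∈ H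
        · have hD : (h : G) ∈ S ⊔ R := T.mem_D h.2 (by have := conj_mem_iff_fixed.1 hin; rwa [hvx] at this)
          rw [T.eta_outer h hD hS, zero_mul]
        · rw [extendByZero_not_mem H _ hin, mul_zero]
    rw [hΦ]
    simp only [hterm, Finset.sum_add_distrib, sum_ite_mem, T.card_S_H, Finset.sum_ite_eq', Finset.mem_univ,
      if_true]
    ring
  have hout : ∀ g ∉ H, Φ g = m * (m - 1) := by
    intro g hg
    obtain ⟨k, hk, hkx⟩ := T.trans x (g • pt H) T.ne (fun e => hg (smul_pt.1 e))
    have hl : v⁻¹ * k⁻¹ * g ∈ H := smul_pt.1 (by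
      rw [mul_smul, mul_smul, ← hkx, inv_smul_smul, inv_smul_eq_iff, hvx])
    rw [← hv2, hΦ]
    refine Fintype.sum_equiv (MulAut.conj (⟨k, hk⟩ : H)⁻¹).toEquiv _ _ fun h => ?_
    congr 1
    · exact (isClassFunction_eta H h _).symm
    · rw [← ext_conj hl (v⁻¹ * _ * v)]
      simp [mul_assoc]
  have hsum : ∑ g : G, Φ g = (Nat.card H : ℂ) * Nat.card H +
      ((Nat.card G : ℂ) - Nat.card H) * (m * (m - 1)) := by
    rw [Finset.sum_congr rfl (g := fun g => (if g ∈ H then (Nat.card H : ℂ) - m * (m - 1) else 0) + m * (m - 1))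
      fun g _ => ?_]
    · rw [Finset.sum_add_distrib, sum_ite_mem, Finset.sum_const, Finset.card_univ, nsmul_eq_mul,
        Nat.card_eq_fintype_card (α := G)]
      ring
    · split_ifs with h
      · rw [hin g h]; ring
      · rw [hout g h]; ring
  have hG : (Nat.card G : ℂ) = Nat.card H * H.index := by exact_mod_cast H.card_mul_index.symm
  have hH : (Nat.card H : ℂ) = ((H.index : ℂ) - 1) * (m * s) := by
    rw [T.card_H, Nat.cast_mul, Nat.cast_sub (by have := T.two_le_index; omega), Nat.cast_one, Nat.cast_mul]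
  have hH0 : (Nat.card H : ℂ) ≠ 0 := by exact_mod_cast Nat.card_pos.ne'
  rw [hX, hsum, hG]
  field_simp
  rw [hH]
  ring

open scoped Classical in
theorem card_invol :
    ((Finset.univ : Finset G).filter fun t => orderOf t = 2).card = H.index * Nat.card S := by
  haveI := Fintype.ofFinite (G ⧸ H)
  rw [← Fintype.card_subtype, ← Nat.card_eq_fintype_card]
  obtain ⟨t0, ht0, ht0o, -⟩ := T.lonely
  have hfix : ∀ t : G, orderOf t = 2 → ∃ a : G ⧸ H, t • a = a := fun t ht => CfsgLib.Bender.exists_fixed T.se ht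
  choose f hf using hfix
  refine (Nat.card_congr (Equiv.sigmaFiberEquiv (fun t : {t : G // orderOf t = 2} => f t.1 t.2)).symm).trans ?_
  rw [Nat.card_sigma, Finset.sum_congr rfl (g := fun _ => Nat.card S) fun a _ => ?_, Finset.sum_const,
    Finset.card_univ, smul_eq_mul, ← Nat.card_eq_fintype_card]
  · rfl
  · rw [← T.numS, CfsgLib.Bender.numInv, ← CfsgLib.Invol.card_fixing_eq T.se a]
    exact Nat.card_congr
      { toFun := fun t => ⟨t.1.1, t.1.2, by have h := hf t.1.1 t.1.2; rwa [t.2] at h⟩
        invFun := fun t => ⟨⟨t.1, t.2.1⟩, fixed_unique T.se t.2.1 (hf t.1 t.2.1) t.2.2⟩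
        left_inv := fun _ => rfl
        right_inv := fun _ => rfl }

open scoped Classical in
/-- The sum over the pairs of involutions. -/
theorem sum_pairs :
    ∑ t1 ∈ Finset.univ.filter (fun t : G => orderOf t = 2),
      ∑ t2 ∈ Finset.univ.filter (fun t : G => orderOf t = 2), extendByZero H (eta H) (t1 * t2) =
    (Nat.card S : ℂ) * ((Nat.card S : ℂ) * ((Nat.card S : ℂ) - 1)) := by
  set m : ℂ := (Nat.card S : ℂ)
  set I := Finset.univ.filter (fun t : G => orderOf t = 2) with hI
  have hmemI : ∀ t, t ∈ I ↔ orderOf t = 2 := fun t => by simp [hI]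
  have hcount : ∀ c : ℂ, ∑ t ∈ I, (if t ∈ H then c else 0) = m * c := fun c => by
    rw [← Finset.sum_filter, Finset.sum_const, nsmul_eq_mul, hI, Finset.filter_filter, ← Fintype.card_subtype,
      ← Nat.card_eq_fintype_card]
    congr 2
    exact T.numS
  rw [Finset.sum_congr rfl (g := fun t1 => if t1 ∈ H then m * (m - 1) else 0) fun t1 h1 => ?_, hcount]
  have h1o := (hmemI t1).1 h1
  split_ifs with hH
  · rw [← hcount]
    refine Finset.sum_congr rfl fun t2 h2 => ?_
    have h2o := (hmemI t2).1 h2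
    split_ifs with hH2
    · rw [extendByZero_mem H _ (mul_mem hH hH2)]
      exact T.eta_of_cent _ fun u hu huo => (T.comm t1 hH u hu h1o huo).mul_left (T.comm t2 hH2 u hu h2o huo)
    · exact extendByZero_not_mem H _ fun h => hH2 (by simpa using mul_mem (inv_mem hH) h)
  · obtain ⟨k, hk, hkx⟩ := T.trans x (t1 • pt H) T.ne (fun e => hH (smul_pt.1 e))
    set t' := k⁻¹ * t1 * k with ht'
    have hkpt : k • pt H = pt H := smul_pt.2 hk
    have ht'o : orderOf t' = 2 := by simpa [ht'] using invol_conj h1o k⁻¹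
    have ht'x : t' • pt H = x := by rw [ht', mul_smul, mul_smul, hkpt, ← hkx, inv_smul_smul]
    let e : S → G := fun a => k * ((a : G) * t') * k⁻¹
    have he : Function.Injective e := fun a b h =>
      Subtype.ext (mul_right_cancel (mul_left_cancel (mul_right_cancel h)))
    rw [← Finset.sum_subset (s₁ := Finset.univ.image e) (fun t ht => ?_) (fun t ht ht' => ?_)]
    · rw [Finset.sum_image he.injOn]
      have hv : ∀ a : S, extendByZero H (eta H) (t1 * e a) = (if a = 1 then m else 0) + (-1) := by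
        intro a
        have ea : t1 * e a = k⁻¹⁻¹ * (a : G)⁻¹ * k⁻¹ := by
          rw [← T.inv t' ht'o ht'x a a.2, invol_inv ht'o]
          simp [e, ht', mul_assoc]
        rw [ea, ext_conj (inv_mem hk), extendByZero_mem H _ (T.S_le_H (inv_mem a.2))]
        by_cases h : a = 1
        · subst h
          rw [if_pos rfl, show (⟨((1 : S) : G)⁻¹, T.S_le_H (inv_mem (1 : S).2)⟩ : H) = 1 from
            Subtype.ext (by simp), T.eta_one]
          ring
        · rw [if_neg h, T.eta_S _ (inv_mem a.2), zero_add]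
          intro e1
          have := congrArg Subtype.val e1
          exact h (Subtype.ext (by simpa using this))
      simp only [hv, Finset.sum_add_distrib, Finset.sum_ite_eq', Finset.mem_univ, if_true, Finset.sum_const,
        Finset.card_univ, nsmul_eq_mul, ← Nat.card_eq_fintype_card]
      ring
    · obtain ⟨a, -, rfl⟩ := Finset.mem_image.1 ht
      exact (hmemI _).2 (invol_conj (T.mul_swap ht'o ht'x a.2).1 k)
    · refine extendByZero_not_mem H _ fun h => ht' (Finset.mem_image.2 ?_)
      have hto := (hmemI t).1 ht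
      have hty : t • pt H = t1 • pt H := by
        have := smul_pt.2 h
        rw [mul_smul] at this
        conv_rhs => rw [← this]
        rw [invol_smul_smul h1o]
      have hs : k⁻¹ * t * k * t' ∈ S := T.swap_mem ht'o ht'x (by simpa using invol_conj hto k⁻¹)
        (by rw [mul_smul, mul_smul, hkpt, hty, ← hkx, inv_smul_smul])
      refine ⟨⟨_, hs⟩, Finset.mem_univ _, ?_⟩
      show k * (k⁻¹ * t * k * t' * t') * k⁻¹ = t
      rw [mul_assoc (k⁻¹ * t * k), invol_mul_self ht'o]
      group

/-- **Every constituent has degree `|G : H|` times a positive integer**, the sum of which with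
multiplicities is `|S| - 1`. -/
theorem exists_coeff [Fintype (IrrCharacter G)] :
    ∃ (y a : IrrCharacter G → ℕ), (∀ χ : IrrCharacter G, classInner (indEta H) (χ : G → ℂ) = y χ) ∧
      (∀ χ : IrrCharacter G, y χ ≠ 0 → 1 ≤ a χ ∧ (χ : G → ℂ) 1 = ((H.index * a χ : ℕ) : ℂ)) ∧
      ∑ χ, y χ * a χ = Nat.card S - 1 := by
  classical
  have hX : IsCharacter G (indEta H) := isCharacter_indFun H T.isCharacter_eta
  choose y hy using fun χ : IrrCharacter G => classInner_char_irr_nat hX χ
  choose d hd0 hd using fun χ : IrrCharacter G => isIrrCharacter_degree χ.2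
  have hexp : ∀ g, indEta H g = ∑ χ : IrrCharacter G, (y χ : ℂ) * (χ : G → ℂ) g := fun g => by
    conv_lhs => rw [classFun_expand (show IsClassFunction G (indEta H) from isClassFunction_indFun H (eta H)), Finset.sum_apply]
    simp [hy]
  obtain ⟨t, -, hto, -⟩ := T.lonely
  set m : ℂ := (Nat.card S : ℂ) with hmdef
  set N : ℂ := (H.index : ℂ) with hNdef
  have hN2 := T.two_le_index
  have hN0 : N ≠ 0 := by rw [hNdef]; exact_mod_cast (show H.index ≠ 0 by omega)
  have hm0 : m ≠ 0 := by rw [hmdef]; exact_mod_cast Nat.card_pos.ne'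
  have E1 : ∑ χ : IrrCharacter G, (y χ : ℂ) * d χ = N * (m - 1) := by
    rw [← T.indEta_one, hexp]; simp only [hd]
  have E2 : ∑ χ : IrrCharacter G, (y χ : ℂ) * (χ : G → ℂ) t = m - 1 := by
    rw [← T.indEta_invol hto, hexp]
  set I := Finset.univ.filter (fun t : G => orderOf t = 2) with hI
  have hmemI : ∀ t, t ∈ I ↔ orderOf t = 2 := fun t => by simp [hI]
  have hconj : ∀ z, IsConj t z ↔ orderOf z = 2 := fun z => ⟨fun h => by
    obtain ⟨c, rfl⟩ := isConj_iff.1 h
    exact invol_conj hto c, fun h => CfsgLib.Invol.exists_conj_fixing T.se hto h⟩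
  have hcl : (Nat.card {z : G // IsConj t z} : ℂ) = N * m := by
    rw [Nat.card_congr (Equiv.subtypeEquivRight hconj), Nat.card_eq_fintype_card, Fintype.card_subtype,
      T.card_invol, Nat.cast_mul]
  have hcc : ∀ χ : IrrCharacter G, ∑ t1 ∈ I, ∑ t2 ∈ I, (χ : G → ℂ) (t1 * t2) =
      (N * m * (χ : G → ℂ) t) ^ 2 / d χ := by
    intro χ
    have h := omega_mul χ t t
    simp only [omega, hcl, hd, ← Finset.sum_div] at h
    have hd' : (d χ : ℂ) ≠ 0 := by exact_mod_cast (hd0 χ).ne'
    field_simp at h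
    rw [eq_div_iff hd']
    rw [← Finset.sum_product', ← Finset.sum_fiberwise _ (fun p : G × G => p.1 * p.2),
      Finset.sum_congr rfl (g := fun z => (classConst t t z : ℂ) * (χ : G → ℂ) z) fun z _ => ?_]
    · linear_combination -h
    · rw [Finset.sum_congr rfl (g := fun _ => (χ : G → ℂ) z) fun p hp => by rw [(Finset.mem_filter.1 hp).2],
        Finset.sum_const, nsmul_eq_mul, classConst, Nat.card_eq_fintype_card, Fintype.card_subtype]
      congr 3
      ext p
      simp only [Finset.mem_filter, Finset.mem_product, Finset.mem_univ, true_and, hconj, hmemI, and_assoc]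
  have E3 : ∑ χ : IrrCharacter G, (y χ : ℂ) * ((χ : G → ℂ) t) ^ 2 / d χ = (m - 1) / N := by
    have h1 : ∑ t1 ∈ I, ∑ t2 ∈ I, indEta H (t1 * t2) = N * (m * (m * (m - 1))) := by
      have hconjI : ∀ g : G, ∑ t1 ∈ I, ∑ t2 ∈ I, extendByZero H (eta H) (g⁻¹ * (t1 * t2) * g) =
          m * (m * (m - 1)) := by
        intro g
        rw [← T.sum_pairs]
        have hnb : ∀ f : G → ℂ, ∑ u ∈ I, f (g⁻¹ * u * g) = ∑ u ∈ I, f u := fun f => by
          refine Finset.sum_nbij' (fun u => g⁻¹ * u * g) (fun u => g * u * g⁻¹) (fun u hu => ?_) (fun u hu => ?_)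
            (fun u _ => by group) (fun u _ => by group) fun u _ => rfl
          · exact (hmemI _).2 (by simpa using invol_conj ((hmemI u).1 hu) g⁻¹)
          · exact (hmemI _).2 (invol_conj ((hmemI u).1 hu) g)
        rw [← hI, ← hnb fun u => ∑ t2 ∈ I, extendByZero H (eta H) (u * t2)]
        refine Finset.sum_congr rfl fun t1 _ => ?_
        rw [← hnb fun u => extendByZero H (eta H) (g⁻¹ * t1 * g * u)]
        exact Finset.sum_congr rfl fun t2 _ => congrArg _ (by group)
      simp only [indEta, indFun, ← Finset.mul_sum]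
      rw [Finset.sum_congr rfl fun t1 _ => Finset.sum_comm, Finset.sum_comm,
        Finset.sum_congr rfl fun g _ => hconjI g, Finset.sum_const, Finset.card_univ, nsmul_eq_mul,
        ← Nat.card_eq_fintype_card, ← H.card_mul_index, Nat.cast_mul]
      have : (Nat.card H : ℂ) ≠ 0 := by exact_mod_cast Nat.card_pos.ne'
      field_simp
      ring
    have h2 : ∑ t1 ∈ I, ∑ t2 ∈ I, indEta H (t1 * t2) =
        (N * m) ^ 2 * ∑ χ : IrrCharacter G, (y χ : ℂ) * ((χ : G → ℂ) t) ^ 2 / d χ := by
      simp only [hexp]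
      rw [Finset.sum_congr rfl fun t1 _ => Finset.sum_comm, Finset.sum_comm, Finset.mul_sum]
      refine Finset.sum_congr rfl fun χ _ => ?_
      simp only [← Finset.mul_sum, hcc]
      ring
    rw [h1] at h2
    rw [eq_div_iff hN0]
    refine mul_left_cancel₀ (mul_ne_zero hN0 (mul_ne_zero hm0 hm0)) ?_
    linear_combination -h2
  -- the values on the involutions are real
  have hre : ∀ χ : IrrCharacter G, (χ : G → ℂ) t = ((((χ : G → ℂ) t).re : ℝ) : ℂ) := fun χ => by
    have h := irr_inv χ t
    rw [invol_inv hto] at h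
    exact (Complex.conj_eq_iff_re.1 h.symm).symm
  have hzero : ∑ χ : IrrCharacter G,
      (y χ : ℝ) * ((d χ : ℝ) - (H.index : ℝ) * ((χ : G → ℂ) t).re) ^ 2 / d χ = 0 := by
    refine Complex.ofReal_injective ?_
    push_cast
    simp only [← hre]
    rw [Finset.sum_congr rfl (g := fun χ => (y χ : ℂ) * d χ - 2 * N * ((y χ : ℂ) * (χ : G → ℂ) t) +
      N ^ 2 * ((y χ : ℂ) * ((χ : G → ℂ) t) ^ 2 / d χ)) fun χ _ => ?_]
    · rw [Finset.sum_add_distrib, Finset.sum_sub_distrib, ← Finset.mul_sum, ← Finset.mul_sum, E1, E2, E3]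
      field_simp
      ring
    · have hd' : (d χ : ℂ) ≠ 0 := by exact_mod_cast (hd0 χ).ne'
      field_simp
      ring
  have hval : ∀ χ, y χ ≠ 0 → (d χ : ℂ) = N * (χ : G → ℂ) t := by
    intro χ hχ
    have h := (Finset.sum_eq_zero_iff_of_nonneg fun ψ _ =>
      div_nonneg (mul_nonneg (Nat.cast_nonneg _) (sq_nonneg _)) (Nat.cast_nonneg _)).1 hzero χ (Finset.mem_univ χ)
    simp only [div_eq_zero_iff, mul_eq_zero, Nat.cast_eq_zero, hχ, (hd0 χ).ne', false_or, or_false,
      pow_eq_zero_iff two_ne_zero, sub_eq_zero] at h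
    rw [hre χ, ← Complex.ofReal_natCast, h]
    push_cast
    rfl
  have hdvd : ∀ χ, y χ ≠ 0 → H.index ∣ d χ := by
    intro χ hχ
    have hq : (χ : G → ℂ) t = algebraMap ℚ ℂ ((d χ : ℚ) / H.index) := by
      rw [map_div₀, map_natCast, map_natCast, eq_div_iff hN0, hval χ hχ, mul_comm]
    have hint := isCharacter_isIntegral (isCharacter_irr χ) t
    rw [hq, isIntegral_algebraMap_iff (algebraMap ℚ ℂ).injective, IsIntegrallyClosed.isIntegral_iff] at hint
    obtain ⟨z, hz⟩ := hint
    have hN' : (H.index : ℚ) ≠ 0 := by exact_mod_cast (show H.index ≠ 0 by omega)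
    rw [eq_div_iff hN', eq_intCast] at hz
    exact Int.natCast_dvd_natCast.1 ⟨z, by rw [mul_comm]; exact_mod_cast hz.symm⟩
  refine ⟨y, fun χ => d χ / H.index, hy, fun χ hχ => ⟨?_, ?_⟩, ?_⟩
  · exact Nat.div_pos (Nat.le_of_dvd (hd0 χ) (hdvd χ hχ)) (by omega)
  · rw [Nat.mul_div_cancel' (hdvd χ hχ), hd]
  · refine Nat.eq_of_mul_eq_mul_left (show 0 < H.index by omega) ?_
    rw [Finset.mul_sum, Finset.sum_congr rfl (g := fun χ => y χ * d χ) fun χ _ => ?_]
    · refine Nat.cast_injective (R := ℂ) ?_
      push_cast [Nat.cast_sub (show 1 ≤ Nat.card S by have := T.seven_le; omega)]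
      exact E1
    · rcases eq_or_ne (y χ) 0 with h | h
      · simp [h]
      · rw [mul_left_comm, Nat.mul_div_cancel' (hdvd χ h)]

end Torus

end CfsgLib.Bender.Full.Hole
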