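import Cfsg.Agent.Lib.Bender.Full.Hole.Arith
import Cfsg.Agent.Lib.Bender.Full.Hole.Induced

/-!
# The commuting case with an even action on the involutions is impossible

The multiplicities on `S` of the constituents of the induced character of `Induced.lean` violate the
arithmetic of `Arith.lean`.
-/

set_option autoImplicit false
set_option linter.unusedSectionVars false
set_option linter.style.haveILetI false

namespace CfsgLib.Bender.Full.Hole

open scoped ComplexConjugate
open Cfsg CfsgLib.Char Subgroup MulAction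

universe u

namespace Mult

variable {K : Type u} [Group K] [Fintype K] {S : Subgroup K} [Fintype S] [Fintype (normalizer (S : Set K))]
  (hS : SelfCent S)

include hS

/-- The degree in the multiplicities of the representatives. -/
theorem degree_reps {k : ℕ} (μ : Fin k → (S →* ℂˣ)) (hμ1 : ∀ i, μ i ≠ 1)
    (hμr : ∀ i j, i ≠ j → ¬ Rel (μ i) (μ j)) (hμex : ∀ ν, ν ≠ 1 → ∃ i, Rel (μ i) ν)
    (χ : IrrCharacter K) :
    (Nat.card S : ℂ) * (χ : K → ℂ) 1 = (Nat.card S : ℂ) * (mult S χ 1 : ℂ) +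
      (Nat.card (normalizer (S : Set K)) : ℂ) * ∑ i, (mult S χ (μ i) : ℂ) := by
  classical
  haveI := finite_dual hS
  haveI := Fintype.ofFinite (S →* ℂˣ)
  rw [degree_eq hS, ← Finset.add_sum_erase _ _ (Finset.mem_univ (1 : S →* ℂˣ)), Int.cast_add, mul_add,
    add_right_inj, Int.cast_sum]
  have h1 : ∀ ν ∈ (Finset.univ : Finset (S →* ℂˣ)).erase 1, (Nat.card S : ℂ) * (mult S χ ν : ℂ) =
      ∑ i, ∑ z : normalizer (S : Set K), (if twist z (μ i) = ν then (mult S χ ν : ℂ) else 0) := by
    intro ν hν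
    obtain ⟨i, hi⟩ := hμex ν (Finset.mem_erase.1 hν).1
    have h : ∀ j, ∑ z : normalizer (S : Set K), (if twist z (μ j) = ν then (mult S χ ν : ℂ) else 0) =
        (if Rel (μ j) ν then (Nat.card S : ℂ) else 0) * (mult S χ ν : ℂ) := fun j => by
      rw [← card_rel hS (hμ1 j), Finset.sum_mul]
      exact Finset.sum_congr rfl fun z _ => by split_ifs <;> simp
    rw [Finset.sum_congr rfl fun j _ => h j, Finset.sum_eq_single i, if_pos hi]
    · intro j _ hji
      rw [if_neg fun hj => hμr j i hji (Rel.equiv.trans hj (Rel.equiv.symm hi)), zero_mul]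
    · simp
  rw [Finset.mul_sum, Finset.sum_congr rfl h1, Finset.sum_comm, Finset.mul_sum]
  refine Finset.sum_congr rfl fun i _ => ?_
  rw [Finset.sum_comm, Finset.sum_congr rfl (g := fun _ => (mult S χ (μ i) : ℂ)) fun z _ => ?_]
  · simp [Nat.card_eq_fintype_card]
  · rw [Finset.sum_ite_eq, if_pos (Finset.mem_erase.2 ⟨Rel.ne_one ⟨z, rfl⟩ (hμ1 i), Finset.mem_univ _⟩),
      mult_twist hS]

/-- An irreducible character constant on `S` outside `1`. -/
theorem mult_sub_of_const [Fintype (IrrCharacter K)] (χ : IrrCharacter K) {β : ℤ}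
    (h : ∀ a : S, a ≠ 1 → (χ : K → ℂ) a = β) {μ : S →* ℂˣ} (hμ : μ ≠ 1) :
    mult S χ 1 - mult S χ μ = β := by
  classical
  have h' := sum_coeff hS (isClassFunction_irr χ) h hμ
  rw [Finset.sum_eq_single χ (fun ψ _ hψ => by rw [classInner_irr_ne (Ne.symm hψ), zero_mul]) (by simp),
    classInner_irr_self, one_mul] at h'
  exact_mod_cast h'

end Mult

namespace Torus

variable {G : Type u} [Group G] [Finite G] {H S R : Subgroup G} {x : G ⧸ H} {s : ℕ}
  (T : Torus H S R x s)
include T

theorem selfCent [Fintype G] : Mult.SelfCent S where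
  comm a ha b hb := T.comm_S ha hb
  cent a ha ha1 g hg := by
    rw [← T.cent a ha ha1]
    exact mem_centralizer_singleton_iff.2 hg.eq

theorem two_trans : IsMultiplyPretransitive G (G ⧸ H) 2 := by
  rw [is_two_pretransitive_iff]
  intro p q p' q' hpq hpq'
  obtain ⟨g, hg⟩ := MulAction.exists_smul_eq G p (pt H)
  obtain ⟨g', hg'⟩ := MulAction.exists_smul_eq G p' (pt H)
  obtain ⟨h, hh, e⟩ := T.trans (g • q) (g' • q') (fun e => hpq (smul_left_cancel g (hg.trans e.symm)))
    (fun e => hpq' (smul_left_cancel g' (hg'.trans e.symm)))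
  refine ⟨g'⁻¹ * h * g, ?_, ?_⟩
  · rw [mul_smul, mul_smul, hg, smul_pt.2 hh, ← hg', inv_smul_smul]
  · rw [mul_smul, mul_smul, e, inv_smul_smul]

/-- The reduced permutation character on the points. -/
theorem exists_pi [Fintype G] : ∃ π : IrrCharacter G, (π : G → ℂ) 1 = (H.index : ℂ) - 1 ∧
    (∀ t : G, orderOf t = 2 → (π : G → ℂ) t = 0) ∧ ∀ a ∈ S, a ≠ 1 → (π : G → ℂ) a = 1 := by
  refine ⟨⟨_, (isIrr_permChar_sub_one_iff (G ⧸ H) T.two_le_index).2 T.two_trans⟩, ?_, fun t ht => ?_,
    fun a ha ha1 => ?_⟩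
  · show permChar G (G ⧸ H) 1 - 1 = _
    rw [permChar, show Nat.card (fixedBy (G ⧸ H) (1 : G)) = H.index from
      Nat.card_congr (Equiv.subtypeUnivEquiv fun y => one_smul G y)]
  · show permChar G (G ⧸ H) t - 1 = 0
    obtain ⟨p, hp⟩ := CfsgLib.Bender.exists_fixed T.se ht
    rw [permChar, show Nat.card (fixedBy (G ⧸ H) t) = 1 from Nat.card_eq_one_iff_exists.2 ⟨⟨p, hp⟩, fun q =>
      Subtype.ext (CfsgLib.Invol.fixed_unique T.se ht q.2 hp)⟩, Nat.cast_one, sub_self]
  · show permChar G (G ⧸ H) a - 1 = 1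
    rw [permChar, show fixedBy (G ⧸ H) a = ({pt H, x} : Set (G ⧸ H)) from ?_, Nat.card_coe_set_eq,
      Set.ncard_pair T.ne.symm]
    · norm_num
    · ext y
      constructor
      · exact T.fix a ha ha1 y
      · rintro (rfl | rfl)
        exacts [smul_pt.2 (T.S_le_H ha), (T.S_le ha).2]

end Torus

/-- **The commuting case with an even action on the involutions of `H` does not occur.** -/
theorem false_of_torus {G : Type u} [Group G] [Finite G] {H S R : Subgroup G} {x : G ⧸ H} {s : ℕ}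
    (T : Torus H S R x s) (_hcore : H.normalCore = ⊥)
    (heven : ∃ g ∈ H, (∃ j : ℕ, g ^ 2 ^ j = 1) ∧ ∃ u ∈ H, orderOf u = 2 ∧ ¬ Commute g u) : False := by
  classical
  haveI := Fintype.ofFinite G
  haveI := Fintype.ofFinite (IrrCharacter G)
  have hS := T.selfCent
  have hη := T.norm_eta heven
  obtain ⟨k, μ, hμ1, hμr, hμex, hk⟩ := Mult.exists_reps hS
  rw [T.card_normalizer] at hk
  set m := Nat.card S with hm
  have h7 := T.seven_le
  have hs3 := T.three_le
  have hks : 2 * s * k = m - 1 := Nat.eq_of_mul_eq_mul_right (show 0 < m by omega) (by linarith)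
  have hk0 : 0 < k := by
    rcases Nat.eq_zero_or_pos k with h | h
    · rw [h, mul_zero] at hks; omega
    · exact h
  have hksZ : (2 * s * k : ℤ) = m - 1 := by
    rw [← Nat.cast_one, ← Nat.cast_sub (show 1 ≤ m by omega), ← hks]
    push_cast
    rfl
  set i₀ : Fin k := ⟨0, hk0⟩
  obtain ⟨y, a, hy, ha, hya⟩ := T.exists_coeff
  obtain ⟨q, hq⟩ := T.index_mod
  have hN2 := T.two_le_index
  set b : IrrCharacter G → ℤ := fun χ => Mult.mult S χ 1 - Mult.mult S χ (μ i₀) with hb
  -- the degrees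
  have hdeg : ∀ χ : IrrCharacter G, (χ : G → ℂ) 1 =
      ((Mult.mult S χ 1 + 2 * s * ∑ i, Mult.mult S χ (μ i) : ℤ) : ℂ) := by
    intro χ
    have h := Mult.degree_reps hS μ hμ1 hμr hμex χ
    rw [T.card_normalizer, ← hm] at h
    refine mul_left_cancel₀ (show (m : ℂ) ≠ 0 by exact_mod_cast (show m ≠ 0 by omega)) (h.trans ?_)
    push_cast
    ring
  -- the trivial and the reduced permutation character
  set one : IrrCharacter G := ⟨fun _ => 1, isIrrCharacter_one⟩ with hone
  obtain ⟨π, hπ1, hπt, hπS⟩ := T.exists_pi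
  have hone_pi : one ≠ π := fun e => by
    obtain ⟨t, -, hto, -⟩ := T.lonely
    have h := hπt t hto
    rw [← e] at h
    exact one_ne_zero h
  have hy1 : y one = 0 := by
    by_contra h
    obtain ⟨h1, h2⟩ := ha one h
    have h2' : H.index * a one = 1 := Nat.cast_injective (R := ℂ) (by rw [← h2]; simp [one])
    have := Nat.le_mul_of_pos_right H.index h1
    omega
  have hyπ : y π = 0 := by
    by_contra h
    obtain ⟨h1, h2⟩ := ha π h
    rw [hπ1, ← Nat.cast_one, ← Nat.cast_sub (show 1 ≤ H.index by omega), Nat.cast_inj] at h2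
    have := Nat.le_mul_of_pos_right H.index h1
    omega
  have hbconst : ∀ χ, χ = one ∨ χ = π → ∀ i, Mult.mult S χ 1 - Mult.mult S χ (μ i) = 1 := by
    rintro χ (rfl | rfl) i
    · exact Mult.mult_sub_of_const hS one (β := 1) (fun a _ => by simp [one]) (hμ1 i)
    · exact Mult.mult_sub_of_const hS χ (β := 1)
        (fun c hc => by rw [hπS c c.2 fun e => hc (Subtype.ext e)]; simp) (hμ1 i)
  have hb1 : b one = 1 := hbconst one (Or.inl rfl) i₀
  have hbπ : b π = 1 := hbconst π (Or.inr rfl) i₀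
  -- the three sums
  have hbsq : ∀ i, ∑ χ : IrrCharacter G, (Mult.mult S χ 1 - Mult.mult S χ (μ i)) ^ 2 = 2 * s + 1 := by
    intro i
    have h := Mult.sum_sq hS (hμ1 i)
    rw [T.card_normalizer, ← hm] at h
    refine mul_left_cancel₀ (show (m : ℤ) ≠ 0 by omega) (h.trans ?_)
    push_cast
    ring
  have hβ : ∀ c : S, c ≠ 1 → indEta H (c : G) = -2 := fun c hc =>
    T.indEta_S c.2 fun e => hc (Subtype.ext e)
  have hX : IsClassFunction G (indEta H) := isClassFunction_indFun H _
  have hBsum : ∑ χ, (y χ : ℤ) * b χ = -2 := by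
    have h := Mult.sum_coeff hS hX hβ (hμ1 i₀)
    simp only [hy] at h
    exact_mod_cast h
  have hAsum : ∑ χ, (y χ : ℤ) * (a χ : ℤ) = (m : ℤ) - 1 := by
    rw [← Nat.cast_one, ← Nat.cast_sub (show 1 ≤ m by omega), ← hya]
    push_cast
    rfl
  have hQsum : ∑ χ, (y χ : ℤ) ^ 2 = 2 * k + 1 := by
    have h := T.norm_indEta hη
    rw [classInner_expand hX] at h
    simp only [hy, map_natCast, ← sq] at h
    have h' : (s : ℤ) * ∑ χ, (y χ : ℤ) ^ 2 = s + ((m : ℤ) - 1) := by exact_mod_cast h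
    rw [← hksZ] at h'
    refine mul_left_cancel₀ (show (s : ℤ) ≠ 0 by omega) (h'.trans ?_)
    ring
  -- a constituent
  have hcong : ∀ χ : IrrCharacter G, y χ ≠ 0 → ∀ B C : ℤ,
      Mult.mult S χ 1 + 2 * s * ∑ i, Mult.mult S χ (μ i) = B + m * C →
      2 * (a χ : ℤ) = B + (C - q * a χ) * m := by
    intro χ hχ B C h
    have e := (hdeg χ).symm.trans (ha χ hχ).2
    have e' : Mult.mult S χ 1 + 2 * s * ∑ i, Mult.mult S χ (μ i) = ((H.index * a χ : ℕ) : ℤ) := by
      exact_mod_cast e
    rw [h, Nat.cast_mul, hq] at e'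
    linear_combination -e'
  have hbud : ∀ (p : IrrCharacter G → Prop) [DecidablePred p], ¬ p one → ¬ p π → ∀ f : IrrCharacter G → ℤ, (∀ χ, 0 ≤ f χ) →
      f one = 1 → f π = 1 → ∑ χ : {χ // p χ}, f χ + 2 ≤ ∑ χ, f χ := by
    intro p _ hp1 hp2 f hf h1 h2
    rw [← Finset.sum_subtype (Finset.univ.filter p) (fun χ => by simp) f,
      show (2 : ℤ) = ∑ χ ∈ ({one, π} : Finset (IrrCharacter G)), f χ by rw [Finset.sum_pair hone_pi, h1, h2]; norm_num,
      ← Finset.sum_union]
    · exact Finset.sum_le_sum_of_subset_of_nonneg (Finset.subset_univ _) fun χ _ _ => hf χ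
    · rw [Finset.disjoint_left]
      intro χ hχ hχ'
      rcases Finset.mem_insert.1 hχ' with rfl | hχ'
      · exact hp1 (Finset.mem_filter.1 hχ).2
      · rw [Finset.mem_singleton] at hχ'
        exact hp2 (hχ' ▸ (Finset.mem_filter.1 hχ).2)
  rcases lt_or_ge s 5 with hlt | hge
  · -- three
    have h3 : s = 3 := by
      have hp := T.prime
      interval_cases s
      · rfl
      · exact absurd hp (by decide)
    have hm7 : m = 7 := by rw [hm, T.cardS, h3]; norm_num
    have hk1 : k = 1 := by rw [hm7, h3] at hks; omega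
    have hsub : ∀ f : IrrCharacter G → ℤ, (∀ χ, y χ = 0 → f χ = 0) →
        ∑ χ : {χ // y χ ≠ 0}, f χ = ∑ χ, f χ := by
      intro f hf
      rw [← Finset.sum_subtype (Finset.univ.filter fun χ => y χ ≠ 0) (fun χ => by simp) f]
      exact Finset.sum_filter_of_ne fun χ _ h h' => h (hf χ h')
    refine arith_three (ι := {χ // y χ ≠ 0}) (fun χ => (y χ : ℤ)) (fun χ => (a χ : ℤ)) (fun χ => b χ)
      (fun χ => by have := χ.2; omega) (fun χ => by have := (ha _ χ.2).1; omega)
      (fun χ => ⟨Mult.mult S χ (μ i₀) - q * a χ, ?_⟩) ?_ ?_ ?_ ?_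
    · have h := hcong χ.1 χ.2 (b χ) (Mult.mult S χ (μ i₀)) (by
        subst hk1
        rw [Fin.sum_univ_one, hb, h3, hm7, show (0 : Fin 1) = i₀ from Subsingleton.elim _ _]
        push_cast
        ring)
      rw [hm7] at h
      exact_mod_cast h
    · have h := hbud (fun χ => y χ ≠ 0) (by simp [hy1]) (by simp [hyπ]) (fun χ => b χ ^ 2)
        (fun χ => sq_nonneg _) (by simp [hb1]) (by simp [hbπ])
      rw [hbsq i₀, h3] at h
      push_cast at h
      linarith
    · rw [hsub (fun χ => (y χ : ℤ) * (a χ : ℤ)) fun χ h => by simp [h], hAsum, hm7]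
      norm_num
    · rw [hsub (fun χ => (y χ : ℤ) * b χ) fun χ h => by simp [h], hBsum]
    · rw [hsub (fun χ => (y χ : ℤ) ^ 2) fun χ h => by simp [h], hQsum, hk1]
      norm_num
  -- at least five
  obtain ⟨ε, θ, hε, hθi, hθc, hθind⟩ := Mult.exists_exceptional hS μ i₀ hμ1 hμr
  have hεne : ε ≠ 0 := by rcases hε with rfl | rfl <;> norm_num
  have hgrow : ∀ r : ℕ, 6 ≤ r → 2 * r * (r - 1) + 2 ≤ 2 ^ r := by
    intro r hr
    induction r, hr using Nat.le_induction with
    | base => norm_num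
    | succ n hn ih =>
      obtain ⟨c, rfl⟩ : ∃ c, n = c + 1 := ⟨n - 1, by omega⟩
      simp only [Nat.add_sub_cancel] at ih ⊢
      rw [pow_succ]
      nlinarith
  have hk6 : 6 ≤ s → s - 1 ≤ k := fun h6 => by
    refine le_of_mul_le_mul_left ?_ (show 0 < 2 * s by omega)
    have := hgrow s h6
    rw [hks, hm, T.cardS]
    omega
  have hk5 : s = 5 → k = 3 := fun h5 => by
    have : m = 31 := by rw [hm, T.cardS, h5]; norm_num
    rw [this, h5] at hks
    omega
  have hk3 : 3 ≤ k := by
    rcases eq_or_lt_of_le hge with h | h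
    · rw [hk5 h.symm]
    · have := hk6 (by omega); omega
  have hnexc : ∀ χ, χ = one ∨ χ = π → ∀ i, χ ≠ θ i := by
    intro χ hχ i e
    have hsame : ∀ j, Mult.mult S χ (μ j) = Mult.mult S χ (μ i₀) := fun j => by
      linarith [hbconst χ hχ j, hbconst χ hχ i₀]
    subst e
    have hi : i = i₀ := by
      by_contra hne
      have h := hθc i (θ i)
      rw [hsame, sub_self, if_pos rfl, if_neg (fun e => hne (hθi e)), sub_zero, mul_one] at h
      exact hεne h.symm
    subst hi
    obtain ⟨j, hj⟩ : ∃ j : Fin k, j ≠ i₀ := ⟨⟨1, by omega⟩, fun e => by simpa [i₀] using congrArg Fin.val e⟩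
    have h := hθc j (θ i₀)
    rw [hsame, sub_self, if_neg (fun e => hj (hθi e).symm), if_pos rfl, zero_sub] at h
    simp at h
    exact hεne h
  have hθne : ∀ i, θ i ≠ one ∧ θ i ≠ π := fun i =>
    ⟨fun e => hnexc one (Or.inl rfl) i e.symm, fun e => hnexc π (Or.inr rfl) i e.symm⟩
  set b0 : ℤ := b (θ i₀) + ε
  have hbθ : ∀ i, b (θ i) = b0 - if i = i₀ then ε else 0 := by
    intro i
    by_cases hi : i = i₀
    · subst hi; simp [b0]
    rw [if_neg hi, sub_zero]
    have hne : θ i ≠ θ i₀ := fun e => hi (hθi e)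
    have h : ∑ χ, ((Mult.mult S χ 1 - Mult.mult S χ (μ i)) ^ 2 - b χ ^ 2) = 0 := by
      rw [Finset.sum_sub_distrib, hbsq i, show ∑ χ, b χ ^ 2 = 2 * (s : ℤ) + 1 from hbsq i₀, sub_self]
    rw [Finset.sum_eq_add (θ i) (θ i₀) hne (fun χ _ hχ => by
      have h := hθc i χ
      rw [if_neg hχ.1, if_neg hχ.2, sub_zero, mul_zero, sub_eq_zero] at h
      rw [h]
      exact sub_self _) (by simp) (by simp)] at h
    have e1 := hθc i (θ i)
    have e2 := hθc i (θ i₀)
    rw [if_pos rfl, if_neg hne] at e1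
    rw [if_pos rfl, if_neg hne.symm] at e2
    have c1 : Mult.mult S (θ i) (μ i) = Mult.mult S (θ i) (μ i₀) + ε := by linarith
    have c2 : Mult.mult S (θ i₀) (μ i) = Mult.mult S (θ i₀) (μ i₀) - ε := by linarith
    simp only [hb, b0] at h ⊢
    rw [c1, c2] at h
    rcases hε with rfl | rfl <;> linarith
  set p : IrrCharacter G → Prop := fun χ => y χ ≠ 0 ∧ ∀ i, χ ≠ θ i
  have hsplit : ∀ f : IrrCharacter G → ℤ, (∀ χ, y χ = 0 → (∀ i, χ ≠ θ i) → f χ = 0) →
      ∑ χ, f χ = ∑ χ : {χ // p χ}, f χ + ∑ i, f (θ i) := by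
    intro f hf
    rw [← Finset.sum_subtype (Finset.univ.filter p) (fun χ => by simp) f,
      ← Finset.sum_image (f := f) hθi.injOn, ← Finset.sum_union]
    · refine (Finset.sum_subset (Finset.subset_univ _) fun χ _ hχ => ?_).symm
      simp only [Finset.mem_union, Finset.mem_filter, Finset.mem_univ, true_and, Finset.mem_image, not_or,
        not_exists, p, not_and] at hχ
      refine hf χ ?_ fun i e => hχ.2 i e.symm
      by_contra h
      exact hχ.1 h fun i e => hχ.2 i e.symm
    · rw [Finset.disjoint_left]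
      intro χ hχ hχ'
      obtain ⟨i, -, rfl⟩ := Finset.mem_image.1 hχ'
      exact (Finset.mem_filter.1 hχ).2.2 i rfl
  -- equal coefficients and degrees on the exceptional characters
  have hysame : ∀ i, y (θ i) = y (θ i₀) := by
    intro i
    have h : classInner (indEta H) (indFun S (lc (μ i) - lc (μ i₀))) = 0 :=
      Mult.inner_ind_sub hS hX hβ (hμ1 i) (hμ1 i₀)
    rw [hθind i, classInner_smul_right, classInner_sub_right, hy, hy, map_intCast] at h
    rcases mul_eq_zero.1 h with h0 | h0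
    · exact absurd (by exact_mod_cast h0) hεne
    · exact_mod_cast sub_eq_zero.1 h0
  have hasame : ∀ i, (y (θ i) : ℤ) * a (θ i) = y (θ i₀) * a (θ i₀) := by
    intro i
    rw [hysame i]
    by_cases h0 : y (θ i₀) = 0
    · simp [h0]
    have h := congrFun (hθind i) 1
    rw [indFun_one] at h
    simp only [Pi.sub_apply, lc, map_one, Units.val_one, sub_self, mul_zero, Pi.smul_apply, smul_eq_mul] at h
    rcases mul_eq_zero.1 h.symm with h1 | h1
    · exact absurd (by exact_mod_cast h1) hεne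
    rw [sub_eq_zero, (ha _ h0).2, (ha _ (hysame i ▸ h0)).2, Nat.cast_inj] at h1
    rw [Nat.eq_of_mul_eq_mul_left (by omega) h1]
  refine arith_five (ι := {χ // p χ}) (fun χ => (y χ : ℤ)) (fun χ => (a χ : ℤ)) (fun χ => b χ)
    s k m (y (θ i₀)) (a (θ i₀)) b0 ε (by omega) (by linarith) (by omega) (fun h => by have := hk5 (by omega); omega)
    (fun h => by have := hk6 (by omega); omega) hε (fun χ => by have := χ.2.1; omega)
    (fun χ => by have := (ha _ χ.2.1).1; omega) (fun χ => ⟨Mult.mult S χ (μ i₀) - q * a χ, ?_⟩)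
    (Int.natCast_nonneg _) (fun h => ⟨?_, Mult.mult S (θ i₀) (μ i₀) - ε - q * a (θ i₀), ?_⟩) ?_ ?_ ?_ ?_
  · refine hcong χ.1 χ.2.1 _ _ ?_
    have hall : ∀ i, Mult.mult S χ (μ i) = Mult.mult S χ (μ i₀) := fun i => by
      have h := hθc i χ.1
      rw [if_neg (χ.2.2 i), if_neg (χ.2.2 i₀), sub_zero, mul_zero] at h
      exact sub_eq_zero.1 h
    rw [Finset.sum_congr rfl fun i _ => hall i, Finset.sum_const, Finset.card_univ, Fintype.card_fin,
      nsmul_eq_mul, hb]
    linear_combination Mult.mult S χ (μ i₀) * hksZ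
  · have := (ha (θ i₀) (by exact_mod_cast h)).1
    omega
  · refine hcong _ (by exact_mod_cast h) (b0 + ε * (2 * s)) (Mult.mult S (θ i₀) (μ i₀) - ε) ?_
    have hall : ∀ i, Mult.mult S (θ i₀) (μ i) =
        Mult.mult S (θ i₀) (μ i₀) + ε * ((if i = i₀ then 1 else 0) - 1) := fun i => by
      have h := hθc i (θ i₀)
      rw [if_pos rfl, show (if θ i₀ = θ i then (1 : ℤ) else 0) = if i = i₀ then 1 else 0 from
        if_congr ⟨fun e => (hθi e).symm, fun e => by rw [e]⟩ rfl rfl] at h
      linarith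
    rw [Finset.sum_congr rfl fun i _ => hall i, Finset.sum_add_distrib, ← Finset.mul_sum,
      Finset.sum_sub_distrib, Finset.sum_ite_eq', if_pos (Finset.mem_univ _), Finset.sum_const,
      Finset.sum_const, Finset.card_univ, Fintype.card_fin, nsmul_eq_mul, nsmul_eq_mul]
    simp only [hb, b0]
    linear_combination (Mult.mult S (θ i₀) (μ i₀) - ε) * hksZ
  · -- the budget
    set f : IrrCharacter G → ℤ := fun χ => if ∀ i, χ ≠ θ i then b χ ^ 2 else 0 with hf
    have h := hbud p (fun h => h.1 hy1) (fun h => h.1 hyπ) f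
      (fun χ => by rw [hf]; dsimp only; split_ifs <;> first | exact sq_nonneg _ | rfl)
      (by rw [hf]; dsimp only; rw [if_pos (fun i => ((hθne i).1).symm), hb1]; norm_num)
      (by rw [hf]; dsimp only; rw [if_pos (fun i => ((hθne i).2).symm), hbπ]; norm_num)
    have h1 : ∑ χ : {χ // p χ}, f χ = ∑ χ : {χ // p χ}, b χ ^ 2 :=
      Finset.sum_congr rfl fun χ _ => by rw [hf]; dsimp only; rw [if_pos χ.2.2]
    have h2 : ∑ χ, b χ ^ 2 = ∑ χ, f χ + ∑ i, b (θ i) ^ 2 := by
      rw [← Finset.sum_image (f := fun χ => b χ ^ 2) hθi.injOn,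
        ← Finset.sum_add_sum_compl (Finset.univ.image θ) fun χ => b χ ^ 2, add_comm]
      congr 1
      rw [← Finset.sum_add_sum_compl (Finset.univ.image θ) f, Finset.sum_eq_zero (s := Finset.univ.image θ)
        (fun χ hχ => ?_), zero_add]
      · refine Finset.sum_congr rfl fun χ hχ => ?_
        rw [hf]
        dsimp only
        rw [if_pos fun i e => Finset.mem_compl.1 hχ (Finset.mem_image.2 ⟨i, Finset.mem_univ i, e.symm⟩)]
      · obtain ⟨i, -, rfl⟩ := Finset.mem_image.1 hχ
        rw [hf]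
        exact if_neg fun h => h i rfl
    have h3 : ∑ i, b (θ i) ^ 2 = k * b0 ^ 2 - 2 * ε * b0 + 1 := by
      rw [Finset.sum_congr rfl (g := fun i => b0 ^ 2 + if i = i₀ then 1 - 2 * ε * b0 else 0) fun i _ => ?_,
        Finset.sum_add_distrib, Finset.sum_ite_eq', if_pos (Finset.mem_univ _), Finset.sum_const,
        Finset.card_univ, Fintype.card_fin, nsmul_eq_mul]
      · ring
      · rw [hbθ i]
        split_ifs with hi
        · rcases hε with rfl | rfl <;> ring
        · ring
    rw [h1] at h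
    have h4 : ∑ χ, b χ ^ 2 = 2 * (s : ℤ) + 1 := hbsq i₀
    linarith
  · rw [hsplit (fun χ => (y χ : ℤ) * (a χ : ℤ)) fun χ h _ => by simp [h]] at hAsum
    rw [Finset.sum_congr rfl fun i _ => hasame i, Finset.sum_const, Finset.card_univ, Fintype.card_fin,
      nsmul_eq_mul] at hAsum
    linarith
  · rw [hsplit (fun χ => (y χ : ℤ) * b χ) fun χ h _ => by simp [h],
      Finset.sum_congr rfl (g := fun i => (y (θ i₀) : ℤ) * b0 - if i = i₀ then ε * y (θ i₀) else 0)
        fun i _ => ?_, Finset.sum_sub_distrib, Finset.sum_ite_eq', if_pos (Finset.mem_univ _), Finset.sum_const,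
      Finset.card_univ, Fintype.card_fin, nsmul_eq_mul] at hBsum
    · linarith
    · rw [hysame i, hbθ i]
      split_ifs <;> ring
  · rw [hsplit (fun χ => (y χ : ℤ) ^ 2) fun χ h _ => by simp [h]] at hQsum
    simp only [hysame, Finset.sum_const, Finset.card_univ, Fintype.card_fin, nsmul_eq_mul] at hQsum
    linarith

end CfsgLib.Bender.Full.Hole
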