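import Cfsg.Agent.Lib.Char.CyclicTIBasic
import Cfsg.Agent.Lib.Char.Exceptional
import Cfsg.Agent.Lib.ProdFusion.Basic
import Mathlib.GroupTheory.FiniteAbelian.Duality

/-!
# Multiplicities on an abelian self-centralizing subgroup

`S` is abelian and contains the centralizer of each of its non-identity elements.  For an irreducible
character `χ` of the group, `mult χ μ` is the multiplicity of the linear character `μ` of `S`.
-/

set_option autoImplicit false
set_option linter.unusedSectionVars false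
set_option linter.style.haveILetI false

namespace CfsgLib.Bender.Full.Hole.Mult

open scoped ComplexConjugate
open Cfsg CfsgLib.Char Subgroup

universe u

variable {K : Type u} [Group K] [Fintype K] (S : Subgroup K)

/-- The hypotheses: `S` is abelian and contains the centralizers of its non-identity elements. -/
structure SelfCent : Prop where
  comm : ∀ a ∈ S, ∀ b ∈ S, a * b = b * a
  cent : ∀ a ∈ S, a ≠ 1 → ∀ g : K, Commute g a → g ∈ S

/-- Restriction to `S`. -/
abbrev res (f : K → ℂ) : S → ℂ := fun a => f a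

variable {S} (hS : SelfCent S)
include hS

theorem mem_normalizer {g a : K} (ha : a ∈ S) (ha1 : a ≠ 1) (h : g⁻¹ * a * g ∈ S) :
    g ∈ normalizer (S : Set K) := by
  refine inv_mem_iff.1 (CfsgLib.ProdFusion.mem_of_forall_conj_mem fun b hb => ?_)
  refine hS.cent _ h (fun e => ha1 ?_) _ ?_
  · rw [show a = g * (g⁻¹ * a * g) * g⁻¹ by group, e]
    group
  · show g⁻¹ * b * g⁻¹⁻¹ * (g⁻¹ * a * g) = g⁻¹ * a * g * (g⁻¹ * b * g⁻¹⁻¹)
    rw [show g⁻¹ * b * g⁻¹⁻¹ * (g⁻¹ * a * g) = g⁻¹ * (b * a) * g by group, hS.comm b hb a ha]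
    group

omit hS

/-- Conjugation by an element of the normalizer. -/
def conjHom (x : normalizer (S : Set K)) : S →* S where
  toFun a := ⟨(x : K)⁻¹ * a * x, by simpa using (mem_normalizer_iff.1 (inv_mem x.2) a).1 a.2⟩
  map_one' := Subtype.ext (by simp)
  map_mul' a b := Subtype.ext (by simp [mul_assoc])

/-- The conjugate of a linear character. -/
def twist (x : normalizer (S : Set K)) (μ : S →* ℂˣ) : S →* ℂˣ := μ.comp (conjHom x)

theorem twist_mul (x y : normalizer (S : Set K)) (μ : S →* ℂˣ) : twist (x * y) μ = twist x (twist y μ) := by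
  refine MonoidHom.ext fun a => congrArg μ (Subtype.ext ?_)
  simp [conjHom, mul_assoc]

theorem twist_one (μ : S →* ℂˣ) : twist 1 μ = μ :=
  MonoidHom.ext fun a => congrArg μ (Subtype.ext (by simp [conjHom]))

theorem twist_one' (x : normalizer (S : Set K)) : twist x (1 : S →* ℂˣ) = 1 := MonoidHom.ext fun _ => rfl

/-- `ν` is conjugate to `μ`. -/
def Rel (μ ν : S →* ℂˣ) : Prop := ∃ x : normalizer (S : Set K), twist x μ = ν

theorem Rel.equiv : Equivalence (Rel (S := S)) :=
  ⟨fun μ => ⟨1, twist_one μ⟩, fun {μ ν} ⟨x, hx⟩ => ⟨x⁻¹, by rw [← hx, ← twist_mul, inv_mul_cancel, twist_one]⟩,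
    fun {μ ν ρ} ⟨x, hx⟩ ⟨y, hy⟩ => ⟨y * x, by rw [twist_mul, hx, hy]⟩⟩

theorem Rel.ne_one {μ ν : S →* ℂˣ} (h : Rel μ ν) (hμ : μ ≠ 1) : ν ≠ 1 := by
  obtain ⟨x, rfl⟩ := h
  intro e
  refine hμ ?_
  rw [← twist_one μ, ← inv_mul_cancel x, twist_mul, e, twist_one']

theorem card_ne_zero : (Nat.card S : ℂ) ≠ 0 := by exact_mod_cast Nat.card_pos.ne'

variable [Fintype S] [Fintype (normalizer (S : Set K))]

include hS

/-- Only the elements of `S` fix a non-trivial linear character. -/
theorem twist_eq_iff {x : normalizer (S : Set K)} {μ : S →* ℂˣ} (hμ : μ ≠ 1) :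
    twist x μ = μ ↔ (x : K) ∈ S := by
  constructor
  · intro h
    by_contra hx
    refine hμ (MonoidHom.ext fun b => ?_)
    have hinj : Function.Injective fun a : S => a⁻¹ * conjHom x a := by
      intro a a' e
      have e' : (a : K)⁻¹ * ((x : K)⁻¹ * a * x) = (a' : K)⁻¹ * ((x : K)⁻¹ * a' * x) :=
        congrArg Subtype.val e
      by_contra hne
      refine hx (hS.cent ((a' : K) * (a : K)⁻¹) (mul_mem a'.2 (inv_mem a.2))
        (fun e1 => hne (Subtype.ext (mul_inv_eq_one.1 e1).symm)) _ ?_)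
      have h1 : (x : K)⁻¹ * a' * x = (a' : K) * (a : K)⁻¹ * ((x : K)⁻¹ * a * x) := by
        rw [mul_assoc (a' : K), e']
        group
      show (x : K) * (a' * (a : K)⁻¹) = a' * (a : K)⁻¹ * x
      have h2 : (x : K)⁻¹ * (a' * (a : K)⁻¹) * x = a' * (a : K)⁻¹ := by
        calc (x : K)⁻¹ * (a' * (a : K)⁻¹) * x = (x : K)⁻¹ * a' * x * ((x : K)⁻¹ * a * x)⁻¹ := by group
          _ = _ := by rw [h1, mul_inv_cancel_right]
      calc (x : K) * (a' * (a : K)⁻¹) = x * ((x : K)⁻¹ * (a' * (a : K)⁻¹) * x) := by rw [h2]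
        _ = a' * (a : K)⁻¹ * x := by group
    obtain ⟨a, rfl⟩ := Finite.surjective_of_injective hinj b
    rw [map_mul, map_inv, show μ (conjHom x a) = μ a from DFunLike.congr_fun h a, inv_mul_cancel]
    rfl
  · intro hx
    refine MonoidHom.ext fun a => congrArg μ (Subtype.ext ?_)
    show (x : K)⁻¹ * a * x = a
    rw [mul_assoc, hS.comm a a.2 x hx, inv_mul_cancel_left]

open scoped Classical in
theorem card_fix {μ : S →* ℂˣ} (hμ : μ ≠ 1) :
    ∑ x : normalizer (S : Set K), (if twist x μ = μ then (1 : ℂ) else 0) = Nat.card S := by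
  rw [Finset.sum_boole, ← Fintype.card_subtype, ← Nat.card_eq_fintype_card]
  congr 1
  refine (Nat.card_congr (Equiv.subtypeEquivRight fun x => ?_)).trans
    (Nat.card_congr (subgroupOfEquivOfLe (le_normalizer (H := S))).toEquiv)
  exact (twist_eq_iff hS hμ).trans (mem_subgroupOf (h := x)).symm

open scoped Classical in
theorem card_rel {μ ν : S →* ℂˣ} (hμ : μ ≠ 1) :
    ∑ x : normalizer (S : Set K), (if twist x μ = ν then (1 : ℂ) else 0) =
      if Rel μ ν then (Nat.card S : ℂ) else 0 := by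
  split_ifs with h
  · obtain ⟨y, rfl⟩ := h
    rw [← card_fix hS hμ]
    refine Fintype.sum_equiv (Equiv.mulLeft y⁻¹) _ _ fun x => ?_
    show _ = if twist (y⁻¹ * x) μ = μ then (1 : ℂ) else 0
    refine if_congr ?_ rfl rfl
    rw [twist_mul]
    constructor
    · intro e
      rw [e, ← twist_mul, inv_mul_cancel, twist_one]
    · intro e
      have := congrArg (twist y) e
      rwa [← twist_mul, mul_inv_cancel, twist_one] at this
  · exact Finset.sum_eq_zero fun x _ => if_neg fun e => h ⟨x, e⟩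

/-- The value on `S` of a function induced from one vanishing at `1`. -/
theorem indFun_res (f : S → ℂ) (hf : f 1 = 0) (a : S) :
    indFun S f a = (Nat.card S : ℂ)⁻¹ * ∑ x : normalizer (S : Set K), f (conjHom x a) := by
  classical
  by_cases ha : a = 1
  · subst ha
    rw [coe_one, indFun_one, hf, mul_zero, Finset.sum_eq_zero fun x _ => by rw [map_one, hf], mul_zero]
  rw [indFun]
  congr 1
  rw [← Finset.sum_filter_add_sum_filter_not Finset.univ (fun x : K => x ∈ normalizer (S : Set K)),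
    Finset.sum_eq_zero (s := Finset.univ.filter fun x : K => ¬ x ∈ normalizer (S : Set K)) fun x hx =>
      extendByZero_not_mem S f fun h => (Finset.mem_filter.1 hx).2
        (mem_normalizer hS a.2 (fun e => ha (Subtype.ext e)) h),
    add_zero, Finset.sum_subtype (p := fun x => x ∈ normalizer (S : Set K)) _ (fun x => by simp)]
  exact Finset.sum_congr rfl fun x _ => extendByZero_mem S f (conjHom x a).2

/-- Inner products of induced differences of linear characters. -/
theorem inner_ind (μ ν μ' ν' : S →* ℂˣ) [DecidableEq (S →* ℂˣ)] :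
    classInner (indFun S (lc μ - lc ν)) (indFun S (lc μ' - lc ν')) = (Nat.card S : ℂ)⁻¹ *
      ∑ x : normalizer (S : Set K), ((if twist x μ = μ' then (1 : ℂ) else 0) - (if twist x μ = ν' then 1 else 0)
        - ((if twist x ν = μ' then (1 : ℂ) else 0) - (if twist x ν = ν' then 1 else 0))) := by
  rw [classInner_indFun_right S _ _ (isClassFunction_indFun S _)]
  have e : (fun a : S => indFun S (lc μ - lc ν) (a : K)) =
      (Nat.card S : ℂ)⁻¹ • ∑ x : normalizer (S : Set K), (lc (twist x μ) - lc (twist x ν)) := by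
    funext a
    rw [indFun_res hS _ (by simp [lc]) a, Pi.smul_apply, Finset.sum_apply, smul_eq_mul]
    rfl
  rw [e, classInner_smul_left, classInner_sum_left]
  congr 1
  refine Finset.sum_congr rfl fun x _ => ?_
  rw [classInner_sub_left, classInner_sub_right, classInner_sub_right, classInner_lc, classInner_lc,
    classInner_lc, classInner_lc]

/-- The norm of the function induced from `1 - μ`. -/
theorem norm_one_sub {μ : S →* ℂˣ} (hμ : μ ≠ 1) :
    (Nat.card S : ℂ) * classInner (indFun S (lc 1 - lc μ)) (indFun S (lc 1 - lc μ)) =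
      Nat.card (normalizer (S : Set K)) + Nat.card S := by
  classical
  rw [inner_ind hS, ← mul_assoc, mul_inv_cancel₀ card_ne_zero, one_mul, Finset.sum_sub_distrib,
    Finset.sum_sub_distrib, Finset.sum_sub_distrib, card_fix hS hμ, card_rel hS hμ,
    if_neg (fun h => (Rel.ne_one h hμ) rfl), zero_sub, sub_neg_eq_add]
  simp [twist_one', Ne.symm hμ, Nat.card_eq_fintype_card]

/-- The inner products of the differences at pairwise non-conjugate characters. -/
theorem gram {μ μ' ν : S →* ℂˣ} (hμ : μ ≠ 1) (hν : ν ≠ 1) (h1 : ¬ Rel μ ν) (h2 : ¬ Rel μ' ν)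
    [Decidable (μ = μ')] (h3 : μ ≠ μ' → ¬ Rel μ μ') :
    classInner (indFun S (lc μ - lc ν)) (indFun S (lc μ' - lc ν)) = if μ = μ' then 2 else 1 := by
  classical
  rw [inner_ind hS, Finset.sum_sub_distrib, Finset.sum_sub_distrib, Finset.sum_sub_distrib, card_fix hS hν,
    card_rel hS hμ, card_rel hS hμ, card_rel hS hν, if_neg h1,
    if_neg (fun h => h2 (Rel.equiv.symm h))]
  have hm : (Nat.card S : ℂ) ≠ 0 := card_ne_zero
  by_cases e : μ = μ'
  · subst e
    rw [if_pos (Rel.equiv.refl μ), if_pos rfl]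
    field_simp
    ring
  · rw [if_neg (h3 e), if_neg e]
    field_simp
    ring

omit hS

open scoped IsMulCommutative in
theorem card_dual (hc : ∀ a ∈ S, ∀ b ∈ S, a * b = b * a) :
    Nat.card (S →* ℂˣ) = Nat.card S ∧ ∀ a : S, a ≠ 1 → ∃ μ : S →* ℂˣ, μ a ≠ 1 := by
  haveI : IsMulCommutative S := ⟨⟨fun a b => Subtype.ext (hc a a.2 b b.2)⟩⟩
  exact ⟨CommGroup.card_monoidHom_of_hasEnoughRootsOfUnity S ℂ,
    fun a ha => CommGroup.exists_apply_ne_one_of_hasEnoughRootsOfUnity S ℂ ha⟩

include hS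

theorem finite_dual : Finite (S →* ℂˣ) :=
  Nat.finite_of_card_ne_zero (by rw [(card_dual hS.comm).1]; exact Nat.card_pos.ne')

theorem sum_dual [Fintype (S →* ℂˣ)] [DecidableEq S] (a : S) :
    ∑ μ : S →* ℂˣ, lc μ a = if a = 1 then (Nat.card S : ℂ) else 0 := by
  split_ifs with h
  · subst h
    simp [lc, ← Nat.card_eq_fintype_card, (card_dual hS.comm).1]
  · obtain ⟨φ, hφ⟩ := (card_dual hS.comm).2 a h
    have e : ∑ μ : S →* ℂˣ, lc μ a = lc φ a * ∑ μ : S →* ℂˣ, lc μ a := by
      rw [Finset.mul_sum]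
      refine (Fintype.sum_equiv (Equiv.mulLeft φ) _ _ fun μ => ?_).symm
      simp [lc]
    have hne : lc φ a ≠ 1 := fun e1 => hφ (Units.ext e1)
    have := sub_eq_zero.2 e
    rw [← one_mul (∑ μ : S →* ℂˣ, lc μ a), ← mul_assoc, mul_one, ← sub_mul, mul_eq_zero] at this
    exact this.resolve_left (sub_ne_zero.2 hne.symm)

/-- The multiplicity of a linear character in the restriction of an irreducible one. -/
theorem exists_mult (χ : IrrCharacter K) (μ : S →* ℂˣ) :
    ∃ n : ℕ, classInner (res S (χ : K → ℂ)) (lc μ) = n :=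
  classInner_isCharacter (isCharacter_comp (isCharacter_irr χ) S.subtype)
    (isCharacter_of_isIrr (isIrrCharacter_lc μ))

omit hS in
/-- The multiplicity of a linear character in the restriction of an irreducible one. -/
noncomputable def mult (S : Subgroup K) [Fintype S] (χ : IrrCharacter K) (μ : S →* ℂˣ) : ℤ :=
  ⌊(classInner (res S (χ : K → ℂ)) (lc μ)).re⌋

theorem mult_spec (χ : IrrCharacter K) (μ : S →* ℂˣ) :
    classInner (res S (χ : K → ℂ)) (lc μ) = mult S χ μ ∧ 0 ≤ mult S χ μ := by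
  obtain ⟨n, hn⟩ := exists_mult hS χ μ
  have e : mult S χ μ = n := by rw [mult, hn]; simp
  exact ⟨by rw [e, hn]; simp, by omega⟩

theorem mult_twist (χ : IrrCharacter K) (x : normalizer (S : Set K)) (μ : S →* ℂˣ) :
    mult S χ (twist x μ) = mult S χ μ := by
  have e : classInner (res S (χ : K → ℂ)) (lc (twist x μ)) = classInner (res S (χ : K → ℂ)) (lc μ) := by
    have hinj : Function.Injective (conjHom x) := fun a b h => by
      have := congrArg Subtype.val h
      exact Subtype.ext (mul_left_cancel (mul_right_cancel this))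
    rw [classInner, classInner]
    congr 1
    refine Fintype.sum_bijective (conjHom x) ⟨hinj, Finite.surjective_of_injective hinj⟩ _ _ fun a => ?_
    show (χ : K → ℂ) a * _ = (χ : K → ℂ) ((x : K)⁻¹ * a * x) * _
    rw [show (x : K)⁻¹ * a * x = (x : K)⁻¹ * a * ((x : K)⁻¹)⁻¹ by group, isClassFunction_irr χ]
    rfl
  rw [mult, e, mult]

theorem degree_eq [Fintype (S →* ℂˣ)] (χ : IrrCharacter K) :
    (χ : K → ℂ) 1 = ((∑ μ : S →* ℂˣ, mult S χ μ : ℤ) : ℂ) := by
  classical
  have hreg : classInner (res S (χ : K → ℂ)) (∑ μ : S →* ℂˣ, lc μ) = (χ : K → ℂ) 1 := by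
    rw [classInner, Finset.sum_eq_single (1 : S)]
    · rw [Finset.sum_apply, sum_dual hS, if_pos rfl, map_natCast]
      have := card_ne_zero (S := S)
      field_simp
      rfl
    · intro a _ ha
      rw [Finset.sum_apply, sum_dual hS, if_neg ha, map_zero, mul_zero]
    · simp
  rw [← hreg, classInner_sum_right, Int.cast_sum]
  exact Finset.sum_congr rfl fun μ _ => (mult_spec hS χ μ).1

/-- Parseval for the function induced from `1 - μ`. -/
theorem sum_sq [Fintype (IrrCharacter K)] {μ : S →* ℂˣ} (hμ : μ ≠ 1) :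
    (Nat.card S : ℤ) * ∑ χ : IrrCharacter K, (mult S χ 1 - mult S χ μ) ^ 2 =
      Nat.card (normalizer (S : Set K)) + Nat.card S := by
  have h := norm_one_sub hS hμ
  rw [classInner_expand (isClassFunction_indFun S _)] at h
  have hterm : ∀ χ : IrrCharacter K, classInner (indFun S (lc 1 - lc μ)) (χ : K → ℂ) =
      ((mult S χ 1 - mult S χ μ : ℤ) : ℂ) := by
    intro χ
    rw [← classInner_conj, classInner_indFun_right S _ _ (isClassFunction_irr χ), classInner_sub_right,
      (mult_spec hS χ 1).1, (mult_spec hS χ μ).1, map_sub, Int.cast_sub]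
    simp
  simp only [hterm, map_intCast] at h
  have h' : (((Nat.card S : ℤ) * ∑ χ : IrrCharacter K, (mult S χ 1 - mult S χ μ) ^ 2 : ℤ) : ℂ) =
      ((Nat.card (normalizer (S : Set K)) + Nat.card S : ℤ) : ℂ) := by
    push_cast
    rw [← h]
    congr 1
    exact Finset.sum_congr rfl fun χ _ => sq _ |>.trans (by push_cast; ring)
  exact_mod_cast h'

/-- The value on `S` of a class function in the multiplicities. -/
theorem sum_coeff [Fintype (IrrCharacter K)] {F : K → ℂ} (hF : IsClassFunction K F) {β : ℂ}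
    (hβ : ∀ a : S, a ≠ 1 → F a = β) {μ : S →* ℂˣ} (hμ : μ ≠ 1) :
    ∑ χ : IrrCharacter K, classInner F (χ : K → ℂ) * ((mult S χ 1 - mult S χ μ : ℤ) : ℂ) = β := by
  classical
  have h1 : ∑ χ : IrrCharacter K, classInner F (χ : K → ℂ) * ((mult S χ 1 - mult S χ μ : ℤ) : ℂ) =
      classInner (res S F) (lc 1 - lc μ) := by
    conv_rhs => rw [classFun_expand hF]
    rw [show res S (∑ χ : IrrCharacter K, classInner F (χ : K → ℂ) • (χ : K → ℂ)) =
      ∑ χ : IrrCharacter K, classInner F (χ : K → ℂ) • res S (χ : K → ℂ) from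
        funext fun a => by simp [res, Finset.sum_apply], classInner_sum_left]
    refine Finset.sum_congr rfl fun χ _ => ?_
    rw [classInner_smul_left, classInner_sub_right, (mult_spec hS χ 1).1, (mult_spec hS χ μ).1, Int.cast_sub]
  have h2 : res S F = (fun a : S => (if a = 1 then F 1 - β else 0) + β) := funext fun a => by
    by_cases ha : a = 1
    · subst ha; simp [res]
    · simp [res, ha, hβ a ha]
  have h3 : classInner (fun _ : S => (1 : ℂ)) (lc 1 - lc μ) = 1 := by
    rw [show (fun _ : S => (1 : ℂ)) = lc (1 : S →* ℂˣ) from funext fun _ => rfl, classInner_sub_right,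
      classInner_lc, classInner_lc, if_pos rfl, if_neg hμ.symm, sub_zero]
  rw [h1, h2, show (fun a : S => (if a = 1 then F 1 - β else 0) + β) =
    (fun a : S => if a = 1 then F 1 - β else 0) + β • (fun _ : S => (1 : ℂ)) from funext fun a => by simp,
    classInner_add_left, classInner_smul_left, h3, classInner, Finset.sum_eq_single (1 : S)]
  · simp [lc]
  · intro a _ ha; simp [ha]
  · simp

/-- A class function constant on `S` outside `1` is orthogonal to the differences. -/
theorem inner_ind_sub {F : K → ℂ} (hF : IsClassFunction K F) {β : ℂ} (hβ : ∀ a : S, a ≠ 1 → F a = β)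
    {μ ν : S →* ℂˣ} (hμ : μ ≠ 1) (hν : ν ≠ 1) : classInner F (indFun S (lc μ - lc ν)) = 0 := by
  classical
  rw [classInner_indFun_right S _ _ hF]
  have h2 : (fun a : S => F a) = (fun a : S => (if a = 1 then F 1 - β else 0) + β) := funext fun a => by
    by_cases ha : a = 1
    · subst ha; simp
    · simp [ha, hβ a ha]
  rw [h2, show (fun a : S => (if a = 1 then F 1 - β else 0) + β) =
    (fun a : S => if a = 1 then F 1 - β else 0) + β • lc (1 : S →* ℂˣ) from funext fun a => by simp [lc],
    classInner_add_left, classInner_smul_left, classInner_sub_right, classInner_sub_right, classInner_lc,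
    classInner_lc, if_neg hμ.symm, if_neg hν.symm, sub_zero, mul_zero, add_zero, classInner, classInner,
    Finset.sum_eq_single (1 : S), Finset.sum_eq_single (1 : S)]
  · simp [lc]
  all_goals first
    | (intro a _ ha; simp [ha])
    | simp

/-- Representatives of the classes of non-trivial linear characters. -/
theorem exists_reps : ∃ (k : ℕ) (μ : Fin k → (S →* ℂˣ)), (∀ i, μ i ≠ 1) ∧
    (∀ i j, i ≠ j → ¬ Rel (μ i) (μ j)) ∧ (∀ ν, ν ≠ 1 → ∃ i, Rel (μ i) ν) ∧
    k * Nat.card (normalizer (S : Set K)) = (Nat.card S - 1) * Nat.card S := by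
  classical
  haveI := finite_dual hS
  haveI := Fintype.ofFinite (S →* ℂˣ)
  let X := {ν : S →* ℂˣ // ν ≠ 1}
  let st : Setoid X := ⟨fun a b => Rel a.1 b.1, fun a => Rel.equiv.refl _, Rel.equiv.symm, Rel.equiv.trans⟩
  haveI : Fintype (Quotient st) := Fintype.ofFinite _
  let e := Fintype.equivFin (Quotient st)
  let rep : Fin (Fintype.card (Quotient st)) → X := fun i => (e.symm i).out
  have hrep : ∀ i, Quotient.mk st (rep i) = e.symm i := fun i => Quotient.out_eq _
  have hne : ∀ i j, i ≠ j → ¬ Rel (rep i).1 (rep j).1 := fun i j hij h => hij (e.symm.injective (by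
    rw [← hrep i, ← hrep j]; exact Quotient.sound h))
  have hex : ∀ ν, ν ≠ 1 → ∃ i, Rel (rep i).1 ν := fun ν hν => ⟨e (Quotient.mk st ⟨ν, hν⟩),
    Quotient.exact (s := st) (b := ⟨ν, hν⟩) (by rw [hrep, Equiv.symm_apply_apply])⟩
  refine ⟨_, fun i => (rep i).1, fun i => (rep i).2, hne, hex, ?_⟩
  have h : ∑ i, ∑ x : normalizer (S : Set K), ∑ ν ∈ (Finset.univ : Finset (S →* ℂˣ)).erase 1,
      (if twist x (rep i).1 = ν then (1 : ℂ) else 0) =
      ((Fintype.card (Quotient st) * Nat.card (normalizer (S : Set K)) : ℕ) : ℂ) := by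
    rw [Finset.sum_congr rfl (g := fun _ => (Nat.card (normalizer (S : Set K)) : ℂ)) fun i _ => ?_]
    · simp
    · rw [Finset.sum_congr rfl (g := fun _ => (1 : ℂ)) fun x _ => ?_]
      · simp [Nat.card_eq_fintype_card]
      · rw [Finset.sum_ite_eq, if_pos (Finset.mem_erase.2 ⟨Rel.ne_one ⟨x, rfl⟩ (rep i).2, Finset.mem_univ _⟩)]
  rw [Finset.sum_congr rfl fun i _ => Finset.sum_comm, Finset.sum_comm,
    Finset.sum_congr rfl (g := fun _ => (Nat.card S : ℂ)) fun ν hν => ?_] at h
  · rw [Finset.sum_const, Finset.card_erase_of_mem (Finset.mem_univ _), Finset.card_univ,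
      ← Nat.card_eq_fintype_card, (card_dual hS.comm).1, nsmul_eq_mul, ← Nat.cast_mul] at h
    exact_mod_cast h.symm
  · obtain ⟨i, hi⟩ := hex ν (Finset.mem_erase.1 hν).1
    rw [Finset.sum_eq_single i, card_rel hS (rep i).2, if_pos hi]
    · intro j _ hji
      rw [card_rel hS (rep j).2, if_neg fun hj => hne j i hji (Rel.equiv.trans hj (Rel.equiv.symm hi))]
    · simp

/-- The exceptional characters. -/
theorem exists_exceptional {k : ℕ} (μ : Fin k → (S →* ℂˣ)) (i₀ : Fin k) (hne : ∀ i, μ i ≠ 1)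
    (hrel : ∀ i j, i ≠ j → ¬ Rel (μ i) (μ j)) [DecidableEq (IrrCharacter K)] :
    ∃ (ε : ℤ) (θ : Fin k → IrrCharacter K), (ε = 1 ∨ ε = -1) ∧ Function.Injective θ ∧
      (∀ i χ, mult S χ (μ i) - mult S χ (μ i₀) =
        ε * ((if χ = θ i then 1 else 0) - if χ = θ i₀ then 1 else 0)) ∧
      ∀ i, indFun S (lc (μ i) - lc (μ i₀)) =
        (ε : ℂ) • ((θ i : K → ℂ) - (θ i₀ : K → ℂ)) := by
  classical
  obtain ⟨ε, hε, θ, hθ, hθi, he⟩ := exceptional_of_isometry i₀
    (fun i => indFun S (lc (μ i) - lc (μ i₀))) (by simp [indFun_zero])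
    (fun i => isGeneralizedCharacter_indFun S ⟨_, _, isCharacter_of_isIrr (isIrrCharacter_lc _),
      isCharacter_of_isIrr (isIrrCharacter_lc _), rfl⟩)
    (fun i => by simp [indFun_one, lc]) fun i j hi hj => by
      rw [gram hS (hne i) (hne i₀) (hrel i i₀ hi) (hrel j i₀ hj)
        (fun h => hrel i j fun e => h (congrArg μ e))]
      by_cases e : i = j
      · subst e; simp
      · rw [if_neg e, if_neg fun h : μ i = μ j => hrel i j e (by rw [h]; exact Rel.equiv.refl _)]
  obtain ⟨εz, hεz, hεε⟩ : ∃ εz : ℤ, (εz = 1 ∨ εz = -1) ∧ (εz : ℂ) = ε := by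
    rcases hε with rfl | rfl
    exacts [⟨1, Or.inl rfl, Int.cast_one⟩, ⟨-1, Or.inr rfl, by simp⟩]
  refine ⟨εz, fun i => ⟨θ i, hθ i⟩, hεz, fun i j h => hθi (congrArg Subtype.val h), fun i χ => ?_,
    fun i => by rw [hεε]; exact he i⟩
  have h := congrArg (fun f => classInner (χ : K → ℂ) f) (he i)
  simp only [classInner_smul_right, classInner_indFun_right S _ _ (isClassFunction_irr χ),
    classInner_sub_right] at h
  rw [(mult_spec hS χ (μ i)).1, (mult_spec hS χ (μ i₀)).1] at h
  rw [← hεε, map_intCast, classInner_irr χ ⟨θ i, hθ i⟩, classInner_irr χ ⟨θ i₀, hθ i₀⟩] at h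
  have h' : ((mult S χ (μ i) - mult S χ (μ i₀) : ℤ) : ℂ) = ((εz * ((if χ = ⟨θ i, hθ i⟩ then 1 else 0) -
      if χ = ⟨θ i₀, hθ i₀⟩ then 1 else 0) : ℤ) : ℂ) := by
    rw [Int.cast_sub, h]
    push_cast
    split_ifs <;> simp
  exact_mod_cast h'

end CfsgLib.Bender.Full.Hole.Mult
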