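import Cfsg.Agent.Lib.Char.Clifford
import Cfsg.Agent.Lib.Char.Linear
import Cfsg.Agent.Lib.Char.Integrality

/-!
# Kernels of characters and restrictions of characters of prime degree
-/

set_option autoImplicit false
set_option linter.unusedSectionVars false
set_option linter.style.haveILetI false

namespace CfsgLib.Bender.Full.Hole

open scoped ComplexConjugate
open Cfsg CfsgLib.Char Module

universe u

variable {K : Type u} [Group K] [Fintype K]

/-- The kernel of a character. -/
theorem exists_charKer (χ : IrrCharacter K) :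
    ∃ N : Subgroup K, N.Normal ∧ ∀ g, g ∈ N ↔ (χ : K → ℂ) g = (χ : K → ℂ) 1 := by
  obtain ⟨χ, n, ρ, hρ, rfl⟩ := χ
  refine ⟨(MonoidHom.ker ρ), MonoidHom.normal_ker _, fun g => ?_⟩
  show ρ g = 1 ↔ ρ.character g = ρ.character 1
  rw [Representation.char_one, char_eq_degree_iff]
  rfl

/-- A character whose average over a subgroup is its degree contains the subgroup in its kernel. -/
theorem eq_one_of_inner_eq (χ : IrrCharacter K) (S : Subgroup K) [Fintype S]
    (h : classInner (fun a : S => (χ : K → ℂ) a) (fun _ => 1) = (χ : K → ℂ) 1) (a : S) :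
    (χ : K → ℂ) a = (χ : K → ℂ) 1 := by
  obtain ⟨χ, n, ρ, hρ, rfl⟩ := χ
  simp only at h ⊢
  rw [Representation.char_one] at h ⊢
  set d : ℕ := finrank ℂ (Fin n → ℂ)
  have hle : ∀ b : S, (ρ.character b).re ≤ d := fun b =>
    (Complex.re_le_norm _).trans (norm_char_le ρ _)
  have hsum : ∑ b : S, ((d : ℝ) - (ρ.character b).re) = 0 := by
    rw [classInner] at h
    simp only [map_one, mul_one] at h
    have hne : (Nat.card S : ℂ) ≠ 0 := by exact_mod_cast Nat.card_pos.ne'
    have h' : ∑ b : S, ρ.character (b : K) = (Nat.card S : ℂ) * d := by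
      rw [← h, mul_inv_cancel_left₀ hne]
    have h2 := congrArg Complex.re h'
    simp only [Complex.re_sum, Complex.mul_re, Complex.natCast_re, Complex.natCast_im, mul_zero,
      sub_zero] at h2
    rw [Finset.sum_sub_distrib, h2, Finset.sum_const, Finset.card_univ, nsmul_eq_mul,
      Nat.card_eq_fintype_card, sub_self]
  have hre := (Finset.sum_eq_zero_iff_of_nonneg (fun b _ => sub_nonneg.2 (hle b))).1 hsum a (Finset.mem_univ _)
  rw [sub_eq_zero] at hre
  refine Complex.ext (by rw [← hre, Complex.natCast_re]) ?_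
  rw [Complex.natCast_im]
  have h1 := norm_char_le ρ (a : K)
  have h2 : Complex.normSq (ρ.character (a : K)) ≤ (d : ℝ) ^ 2 := by
    rw [← Complex.sq_norm]
    exact pow_le_pow_left₀ (norm_nonneg _) h1 2
  rw [Complex.normSq_apply, ← hre] at h2
  nlinarith

/-- The norm of the restriction of a character whose square has a second constituent trivial on `N`. -/
theorem two_le_norm_restrict [Fintype (IrrCharacter K)] (θ χ : IrrCharacter K) (N : Subgroup K) [Fintype N]
    (hχ1 : (χ : K → ℂ) ≠ fun _ => 1) (hker : ∀ a : N, (χ : K → ℂ) a = (χ : K → ℂ) 1)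
    (hcon : classInner (fun g => (θ : K → ℂ) g * conj ((θ : K → ℂ) g)) (χ : K → ℂ) ≠ 0) :
    classInner (fun a : N => (θ : K → ℂ) a) (fun a : N => (θ : K → ℂ) a) ≠ 1 := by
  classical
  set F : K → ℂ := fun g => (θ : K → ℂ) g * conj ((θ : K → ℂ) g) with hFdef
  have hF : IsCharacter K F := isCharacter_mul (isCharacter_irr θ) (isCharacter_conj (isCharacter_irr θ))
  set one : IrrCharacter K := ⟨fun _ => 1, isIrrCharacter_one⟩
  have hFone : classInner F (one : K → ℂ) = 1 := by
    rw [← classInner_irr_self θ, classInner, classInner]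
    simp [F, one]
  choose mu hmu using fun ψ : IrrCharacter K => classInner_char_irr_nat hF ψ
  choose nu hnu using fun ψ : IrrCharacter K => classInner_isCharacter
    (isCharacter_comp (isCharacter_irr ψ) N.subtype) (isCharacter_of_isIrr (isIrrCharacter_one (G := N)))
  have hN : classInner (fun a : N => (θ : K → ℂ) a) (fun a : N => (θ : K → ℂ) a) =
      ((∑ ψ : IrrCharacter K, mu ψ * nu ψ : ℕ) : ℂ) := by
    have e : classInner (fun a : N => (θ : K → ℂ) a) (fun a : N => (θ : K → ℂ) a) =
        classInner (fun a : N => F a) (fun _ : N => (1 : ℂ)) := by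
      simp [classInner, F]
    have hres : (fun a : N => F a) =
        ∑ ψ : IrrCharacter K, classInner F (ψ : K → ℂ) • fun a : N => (ψ : K → ℂ) a := funext fun a => by
      conv_lhs => rw [classFun_expand (isClassFunction_of_isCharacter hF)]
      simp [Finset.sum_apply]
    rw [e, hres, classInner_sum_left, Nat.cast_sum]
    refine Finset.sum_congr rfl fun ψ _ => ?_
    rw [classInner_smul_left, hmu, Nat.cast_mul]
    congr 1
    exact hnu ψ
  rw [hN]
  intro h
  have h' : ∑ ψ : IrrCharacter K, mu ψ * nu ψ = 1 := by exact_mod_cast h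
  have hne : χ ≠ one := fun e => hχ1 (congrArg Subtype.val e)
  have h2 : mu χ * nu χ + mu one * nu one ≤ 1 := by
    rw [← h', ← Finset.sum_pair (f := fun ψ => mu ψ * nu ψ) hne]
    exact Finset.sum_le_sum_of_subset (Finset.subset_univ _)
  have hN0 : (Nat.card N : ℂ) ≠ 0 := by exact_mod_cast Nat.card_pos.ne'
  have a1 : mu one = 1 := by exact_mod_cast (hmu one).symm.trans hFone
  have b1 : nu one = 1 := by
    refine Nat.cast_injective (R := ℂ) ((hnu one).symm.trans ?_)
    rw [classInner]
    simp [one, Nat.card_eq_fintype_card]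
  have a2 : 1 ≤ mu χ := Nat.one_le_iff_ne_zero.2 fun e => hcon (by rw [hmu, e, Nat.cast_zero])
  have b2 : 1 ≤ nu χ := Nat.one_le_iff_ne_zero.2 fun e => by
    have h0 : classInner (fun a : N => (χ : K → ℂ) a) (fun _ => 1) = 0 := (hnu χ).trans (by rw [e, Nat.cast_zero])
    simp [classInner, hker, Nat.card_eq_fintype_card, irr_one_ne_zero χ] at h0
  have := Nat.mul_le_mul a2 b2
  rw [a1, b1] at h2
  omega

/-- A character of prime degree with reducible restriction to a normal subgroup has linear constituents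
there, so contains the commutators in its kernel. -/
theorem commutator_in_kernel {s : ℕ} (hs : s.Prime) (θ : IrrCharacter K) (hθ : (θ : K → ℂ) 1 = s)
    (N : Subgroup K) [hN : N.Normal] [Fintype N]
    (hnorm : classInner (fun a : N => (θ : K → ℂ) a) (fun a : N => (θ : K → ℂ) a) ≠ 1) (a b : N) :
    (θ : K → ℂ) ((a : K) * b * (a : K)⁻¹ * (b : K)⁻¹) = (θ : K → ℂ) 1 := by
  classical
  have := Fintype.ofFinite (IrrCharacter N)
  have hres : IsCharacter N (fun c : N => (θ : K → ℂ) c) := isCharacter_comp (isCharacter_irr θ) N.subtype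
  choose mu hmu using fun ψ : IrrCharacter N => classInner_char_irr_nat hres ψ
  choose dg hdg0 hdg using fun ψ : IrrCharacter N => isIrrCharacter_degree ψ.2
  have hexp : (fun c : N => (θ : K → ℂ) c) = ∑ ψ : IrrCharacter N, (mu ψ : ℂ) • (ψ : N → ℂ) := by
    conv_lhs => rw [classFun_expand (isClassFunction_of_isCharacter hres)]
    simp only [hmu]
  have hdeg : ∑ ψ : IrrCharacter N, mu ψ * dg ψ = s := by
    have h := congrFun hexp 1
    simp only [Finset.sum_apply, Pi.smul_apply, smul_eq_mul, Subgroup.coe_one, hθ, hdg] at h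
    exact_mod_cast h.symm
  have hsame : ∀ ψ φ : IrrCharacter N, mu ψ ≠ 0 → mu φ ≠ 0 → dg ψ = dg φ := by
    intro ψ φ h1 h2
    obtain ⟨g, hg⟩ : ∃ g : K, conjFun N (ψ : N → ℂ) g = (φ : N → ℂ) := by
      by_contra hcon
      push Not at hcon
      refine h2 ?_
      have h := classInner_restrict_zero N θ.2 ψ.2 φ.2 (by rw [hmu]; exact_mod_cast h1) hcon
      rw [hmu] at h
      exact_mod_cast h
    have e' : ((dg ψ : ℕ) : ℂ) = dg φ := by
      rw [← hdg ψ, ← hdg φ, ← congrFun hg 1]
      exact congrArg _ (Subtype.ext (by simp))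
    exact_mod_cast e'
  have hlin : ∀ ψ : IrrCharacter N, mu ψ ≠ 0 → dg ψ = 1 := by
    intro ψ hψ
    have hdvd : dg ψ ∣ s := hdeg ▸ Finset.dvd_sum fun φ _ => by
      by_cases h : mu φ = 0
      · simp [h]
      · rw [hsame ψ φ hψ h]; exact dvd_mul_left _ _
    rcases (Nat.dvd_prime hs).1 hdvd with h | h
    · exact h
    exfalso
    have hone : mu ψ = 1 ∧ ∀ φ, φ ≠ ψ → mu φ = 0 := by
      have h1 : mu ψ * dg ψ + ∑ φ ∈ Finset.univ.erase ψ, mu φ * dg φ = s := by
        rw [← hdeg, ← Finset.add_sum_erase _ _ (Finset.mem_univ ψ)]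
      have hpos : 1 ≤ mu ψ := Nat.one_le_iff_ne_zero.2 hψ
      rw [h] at h1
      have h2 := Nat.mul_le_mul_right s hpos
      have h3 : mu ψ * s = s := by omega
      refine ⟨(Nat.mul_eq_right hs.pos.ne').1 h3, fun φ hφ => ?_⟩
      by_contra hne
      have h4 := Finset.single_le_sum (f := fun φ => mu φ * dg φ) (fun _ _ => Nat.zero_le _)
        (Finset.mem_erase.2 ⟨hφ, Finset.mem_univ φ⟩)
      have : 0 < mu φ * dg φ := Nat.mul_pos (Nat.pos_of_ne_zero hne) (hdg0 φ)
      omega
    refine hnorm ?_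
    rw [hexp, Finset.sum_eq_single ψ (fun φ _ hφ => by rw [hone.2 φ hφ, Nat.cast_zero, zero_smul])
      (fun h => absurd (Finset.mem_univ _) h), hone.1, Nat.cast_one, one_smul]
    exact classInner_irr_self ψ
  have h1 := congrFun hexp (a * b * a⁻¹ * b⁻¹)
  have h2 := congrFun hexp 1
  simp only [Finset.sum_apply, Pi.smul_apply, smul_eq_mul, Subgroup.coe_mul, Subgroup.coe_inv,
    Subgroup.coe_one] at h1 h2
  rw [h1, h2]
  refine Finset.sum_congr rfl fun ψ _ => ?_
  by_cases h : mu ψ = 0
  · simp [h]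
  obtain ⟨lam, hlam⟩ := (linearCharEquiv (G := N)).surjective ⟨ψ, by rw [hdg, hlin ψ h, Nat.cast_one]⟩
  have hψ : (ψ : N → ℂ) = fun g => (lam g : ℂ) := (congrArg (fun z => ((z.1 : IrrCharacter N) : N → ℂ)) hlam).symm
  rw [hψ]
  have e : lam (a * b * a⁻¹ * b⁻¹) = 1 := by
    rw [map_mul, map_mul, map_mul, map_inv, map_inv, mul_comm (lam a) (lam b), mul_inv_cancel_right,
      mul_inv_cancel]
  simp [e]

end CfsgLib.Bender.Full.Hole
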