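import Cfsg.Agent.Lib.Bender.Full.Hole.Eta
import Cfsg.Agent.Lib.Bender.Full.Hole.Multiplicity
import Cfsg.Agent.Lib.Bender.Full.Hole.Restrict
import Mathlib.GroupTheory.Sylow

/-!
# The action on the involutions of `H` is doubly transitive

For three the orbit of the stabilizer of an involution is too large; for larger primes a reducible
reduced permutation character makes `S` times the kernel normal, against a two-element outside the
kernel.
-/

set_option autoImplicit false
set_option linter.unusedSectionVars false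
set_option linter.style.haveILetI false

namespace CfsgLib.Bender.Full.Hole

open scoped ComplexConjugate
open Cfsg CfsgLib.Char Subgroup
open CfsgLib.Invol (invol_conj)

universe u

variable {G : Type u} [Group G] [Finite G] {H S R : Subgroup G} {x : G ⧸ H} {s : ℕ}

/-- A two-element moving some involution of `H`. -/
abbrev Even' (H : Subgroup G) : Prop :=
  ∃ g ∈ H, (∃ j : ℕ, g ^ 2 ^ j = 1) ∧ ∃ u ∈ H, orderOf u = 2 ∧ ¬ Commute g u

namespace Torus

variable (T : Torus H S R x s)
include T

/-- Some element exchanges two involutions. -/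
theorem exists_exchange (heven : Even' H) :
    ∃ (h : H) (u v : Jv H), u ≠ v ∧ h • u = v ∧ h • v = u := by
  classical
  obtain ⟨g, hg, ⟨j, hj⟩, u, hu, huo, hgu⟩ := heven
  have hex : ∃ i : ℕ, ∀ w : Jv H, (⟨g, hg⟩ : H) ^ 2 ^ i • w = w := ⟨j, fun w => by
    rw [show ((⟨g, hg⟩ : H) ^ 2 ^ j) = 1 from Subtype.ext (by simp [hj]), one_smul]⟩
  rcases Nat.eq_zero_or_pos (Nat.find hex) with h0 | hpos
  · exfalso
    have h := Nat.find_spec hex ⟨u, hu, huo⟩
    rw [h0, pow_zero, pow_one] at h
    exact hgu ((smul_eq_iff _ _).1 h)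
  have hmin := Nat.find_min hex (show Nat.find hex - 1 < Nat.find hex by omega)
  push Not at hmin
  obtain ⟨w, hw⟩ := hmin
  refine ⟨(⟨g, hg⟩ : H) ^ 2 ^ (Nat.find hex - 1), w, _, Ne.symm hw, rfl, ?_⟩
  rw [smul_smul, ← pow_add, ← two_mul, ← pow_succ',
    show Nat.find hex - 1 + 1 = Nat.find hex by omega]
  exact Nat.find_spec hex w

/-- For three the stabilizer of an involution is transitive on the others. -/
theorem two_trans_three (hs : s = 3) (heven : Even' H) :
    MulAction.IsMultiplyPretransitive H (Jv H) 2 := by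
  classical
  obtain ⟨t, ht, hto, hl⟩ := T.lonely
  haveI := T.pretransitive
  set t0 : Jv H := ⟨t, ht, hto⟩
  obtain ⟨h, u, v, huv, hu, hv⟩ := T.exists_exchange heven
  obtain ⟨a, ⟨ha, hau⟩, -⟩ := T.regS u u.2.1 t ht u.2.2 hto
  set A : H := ⟨a, T.S_le_H ha⟩
  have hAu : A • u = t0 := Subtype.ext hau
  obtain ⟨σ, ⟨hσ, hσv⟩, -⟩ := T.regS t ht (A • v : Jv H) (A • v).2.1 hto (A • v).2.2
  set Sg : H := ⟨σ, T.S_le_H hσ⟩
  have hSg : Sg • t0 = A • v := Subtype.ext hσv
  have hne : σ ≠ 1 := by
    intro e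
    refine huv (smul_left_cancel A ?_)
    rw [hAu, ← hSg, show Sg = 1 from Subtype.ext e, one_smul]
  set k : H := A * h * A⁻¹ with hk
  have hk1 : k • t0 = Sg • t0 := by
    rw [hSg, ← hAu, hk, mul_smul, mul_smul, inv_smul_smul, hu]
  have hk2 : k • (Sg • t0) = t0 := by
    rw [hSg, ← hAu, hk, mul_smul, mul_smul, inv_smul_smul, hv]
  set k' : H := Sg⁻¹ * k with hk'
  have hk't : k' • t0 = t0 := by rw [hk', mul_smul, hk1, inv_smul_smul]
  have hk'σ : k' • (Sg • t0) = Sg⁻¹ • t0 := by rw [hk', mul_smul, hk2]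
  let O : Set (Jv H) := {p | ∃ g : H, g • t0 = t0 ∧ g • (Sg • t0) = p}
  have hO : ∀ g : H, g • t0 = t0 → ∀ p ∈ O, g • p ∈ O := fun g hg p ⟨g', h1, h2⟩ =>
    ⟨g * g', by rw [mul_smul, h1, hg], by rw [mul_smul, h2]⟩
  -- the two `R`-orbits
  have hRS : ∀ r ∈ R, ∀ c ∈ S, r * c * r⁻¹ ∈ S := fun r hr c hc => (mem_normalizer_iff.1 (T.normR hr) c).1 hc
  have hmemR : ∀ r ∈ R, r ∈ H := fun r hr => (T.D_le (mem_sup_right hr)).1
  let c : Bool → G := fun b => if b then σ else σ⁻¹
  have hc : ∀ b, c b ∈ S := fun b => by cases b <;> simp [c, hσ]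
  let C : R × Bool → G := fun p => (p.1 : G) * c p.2 * (p.1 : G)⁻¹
  have hC : ∀ p, C p ∈ S ∧ C p ≠ 1 := fun p => ⟨hRS _ p.1.2 _ (hc p.2), fun e => by
    have e' := conj_eq_one_iff.1 e
    cases hb : p.2 <;> simp [c, hb] at e' <;> exact hne e'⟩
  have hCinj : Function.Injective C := by
    have key : ∀ r ∈ R, ∀ b b' : Bool, r * c b * r⁻¹ = c b' → r = 1 ∧ b = b' := by
      intro r hr b b' e
      have hr1 : r = 1 := by
        by_contra hr1
        have h2 : Commute (r * r) σ := by
          have e1 : r * σ * r⁻¹ = σ ∨ r * σ * r⁻¹ = σ⁻¹ := by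
            cases b <;> cases b' <;> simp only [c, if_true, if_false, Bool.false_eq_true] at e
            · exact Or.inl (inv_injective (by simpa [mul_assoc] using e))
            · exact Or.inr (inv_injective (by simpa [mul_assoc] using e))
            · exact Or.inr e
            · exact Or.inl e
          refine mul_inv_eq_iff_eq_mul.1 (show r * r * σ * (r * r)⁻¹ = σ from ?_)
          rcases e1 with e1 | e1
          · rw [show r * r * σ * (r * r)⁻¹ = r * (r * σ * r⁻¹) * r⁻¹ by group, e1, e1]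
          · rw [show r * r * σ * (r * r)⁻¹ = r * (r * σ * r⁻¹) * r⁻¹ by group, e1,
              show r * σ⁻¹ * r⁻¹ = (r * σ * r⁻¹)⁻¹ by group, e1, inv_inv]
        have hrr : r * r = 1 := T.R_inf_S (mul_mem hr hr)
          (by rw [← T.cent σ hσ hne]; exact mem_centralizer_singleton_iff.2 h2.eq)
        have hd : orderOf r ∣ s := T.cardR ▸ Subgroup.orderOf_dvd_natCard R hr
        have hd2 : orderOf r ∣ 2 := orderOf_dvd_of_pow_eq_one (by rw [pow_two, hrr])
        have hg := Nat.dvd_gcd hd hd2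
        rw [hs] at hg
        exact hr1 (orderOf_eq_one_iff.1 (Nat.dvd_one.1 (by simpa using hg)))
      refine ⟨hr1, ?_⟩
      subst hr1
      rw [one_mul, inv_one, mul_one] at e
      have hsq : σ⁻¹ ≠ σ := fun e2 => by
        have h2 : orderOf σ ∣ 2 := orderOf_dvd_of_pow_eq_one (by rw [pow_two]; exact inv_eq_iff_mul_eq_one.1 e2)
        rcases (Nat.dvd_prime Nat.prime_two).1 h2 with h1 | h1
        · exact hne (orderOf_eq_one_iff.1 h1)
        · have := T.odd_orderOf_D (mem_sup_left hσ)
          rw [h1] at this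
          exact absurd this (by decide)
      cases b <;> cases b' <;> simp [c] at e ⊢
      exacts [hsq e, hsq e.symm]
    rintro ⟨r, b⟩ ⟨r', b'⟩ e
    have e' : ((r' : G)⁻¹ * r) * c b * ((r' : G)⁻¹ * r)⁻¹ = c b' := by
      show (r' : G)⁻¹ * r * c b * ((r' : G)⁻¹ * r)⁻¹ = c b'
      calc (r' : G)⁻¹ * r * c b * ((r' : G)⁻¹ * r)⁻¹ = (r' : G)⁻¹ * C (r, b) * r' := by simp only [C]; group
        _ = (r' : G)⁻¹ * C (r', b') * r' := by rw [e]
        _ = c b' := by simp only [C]; group
    obtain ⟨e1, e2⟩ := key _ (mul_mem (inv_mem r'.2) r.2) b b' e'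
    exact Prod.ext (Subtype.ext (inv_mul_eq_one.1 e1).symm) e2
  let f : R × Bool → {p : Jv H // p ≠ t0} := fun p =>
    ⟨(⟨C p, T.S_le_H (hC p).1⟩ : H) • t0, fun e => (hC p).2 (by
      by_contra hC1
      exact T.not_commute_S (hC p).1 hC1 ht hto ((smul_eq_iff _ _).1 e))⟩
  have hf : Function.Injective f := fun p q e => hCinj (by
    obtain ⟨c0, -, huq⟩ := T.regS t ht (f p).1 (f p).1.2.1 hto (f p).1.2.2
    exact (huq _ ⟨(hC p).1, rfl⟩).trans (huq _ ⟨(hC q).1, by rw [e]; rfl⟩).symm)
  have hcard : Nat.card (R × Bool) = Nat.card {p : Jv H // p ≠ t0} := by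
    haveI := Fintype.ofFinite (Jv H)
    rw [Nat.card_prod, T.cardR, hs, Nat.card_eq_fintype_card (α := Bool), Fintype.card_bool,
      Nat.card_eq_fintype_card, Fintype.card_subtype_compl, Fintype.card_subtype_eq, ← Nat.card_eq_fintype_card,
      T.card_Jv, T.cardS, hs]
    norm_num
  have hsurj := ((Nat.bijective_iff_injective_and_card f).2 ⟨hf, hcard⟩).2
  have hall : ∀ p : Jv H, p ≠ t0 → p ∈ O := by
    intro p hp
    obtain ⟨⟨r, b⟩, e⟩ := hsurj ⟨p, hp⟩
    have hp' : p = (⟨C (r, b), T.S_le_H (hC _).1⟩ : H) • t0 := congrArg Subtype.val e.symm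
    set r0 : H := ⟨r, hmemR r r.2⟩
    have hr0 : r0 • t0 = t0 := (smul_eq_iff _ _).2 (hl r r.2).1
    have hr0' : r0⁻¹ • t0 = t0 := inv_smul_eq_iff.2 hr0.symm
    have hpe : p = r0 • ((if b then Sg else Sg⁻¹) • t0) := by
      rw [hp', show (⟨C (r, b), T.S_le_H (hC _).1⟩ : H) = r0 * (if b then Sg else Sg⁻¹) * r0⁻¹ from
        Subtype.ext (by cases b <;> rfl), mul_smul, mul_smul, hr0']
    rw [hpe]
    refine hO r0 hr0 _ ?_
    cases b
    · exact ⟨k', hk't, hk'σ⟩
    · exact ⟨1, one_smul _ _, one_smul _ _⟩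
  rw [MulAction.is_two_pretransitive_iff]
  intro p q p' q' hpq hpq'
  obtain ⟨g, hg⟩ := MulAction.exists_smul_eq H p t0
  obtain ⟨g', hg'⟩ := MulAction.exists_smul_eq H p' t0
  obtain ⟨y, hy, hy'⟩ := hall (g • q) (fun e => hpq (smul_left_cancel g (hg.trans e.symm)))
  obtain ⟨z, hz, hz'⟩ := hall (g' • q') (fun e => hpq' (smul_left_cancel g' (hg'.trans e.symm)))
  refine ⟨g'⁻¹ * z * y⁻¹ * g, ?_, ?_⟩
  · rw [mul_smul, hg, mul_smul, inv_smul_eq_iff.2 hy.symm, mul_smul, hz, inv_smul_eq_iff]
    exact hg'.symm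
  · rw [mul_smul, mul_smul, inv_smul_eq_iff.2 hy'.symm, mul_smul, hz', inv_smul_smul]

theorem selfCent_H [Fintype H] : Mult.SelfCent (S.subgroupOf H) where
  comm a ha b hb := Subtype.ext (T.comm_S ha hb)
  cent a ha ha1 g hg := by
    rw [mem_subgroupOf, ← T.cent (a : G) ha (fun e => ha1 (Subtype.ext e)), mem_centralizer_singleton_iff]
    exact congrArg Subtype.val hg.eq

theorem card_normalizer_H [Fintype H] :
    Nat.card (normalizer (S.subgroupOf H : Set H)) = Nat.card S * s := by
  have e : normalizer (S.subgroupOf H : Set H) = (S ⊔ R).subgroupOf H := by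
    refine le_antisymm (fun g hg => ?_) fun g hg => ?_
    · refine T.normalizer_inf (CfsgLib.ProdFusion.mem_of_forall_conj_mem fun b hb => ?_) g.2
      exact (mem_normalizer_iff.1 hg ⟨b, T.S_le_H hb⟩).1 hb
    · refine CfsgLib.ProdFusion.mem_of_forall_conj_mem fun b hb => ?_
      exact (mem_normalizer_iff.1 (T.S_le_normalizer_D hg) _).1 hb
  rw [e, Nat.card_congr (subgroupOfEquivOfLe (fun y hy => (T.D_le hy).1)).toEquiv, T.card_D]

theorem card_S_H : Nat.card (S.subgroupOf H) = Nat.card S :=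
  Nat.card_congr (subgroupOfEquivOfLe T.S_le_H).toEquiv

/-- A normal subgroup containing `S` whose commutators centralize all involutions cannot exist. -/
theorem false_of_normal (heven : Even' H) (N : Subgroup H) [N.Normal]
    (hSN : S.subgroupOf H ≤ N) (hcom : ∀ a ∈ N, ∀ b ∈ N, ∀ u : Jv H, (a * b * a⁻¹ * b⁻¹) • u = u) :
    False := by
  classical
  obtain ⟨t, ht, hto, -⟩ := T.lonely
  set t0 : Jv H := ⟨t, ht, hto⟩
  set K0 : Subgroup H := (MulAction.toPermHom H (Jv H)).ker
  have hK0 : ∀ g : H, g ∈ K0 ↔ ∀ u : Jv H, g • u = u := fun g => by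
    rw [MonoidHom.mem_ker]
    exact ⟨fun e u => congrFun (congrArg (fun p : Equiv.Perm (Jv H) => ⇑p) e) u,
      fun e => Equiv.ext e⟩
  set S' := S.subgroupOf H
  have hK0D : ∀ g : H, (g : G) ∈ S ⊔ R → g ∈ K0 → g = 1 := fun g hg hg0 =>
    Subtype.ext (T.eq_one_of_cent hg fun u hu huo => (smul_eq_iff g ⟨u, hu, huo⟩).1 ((hK0 g).1 hg0 _))
  have hN : ∀ g ∈ N, g ∈ S' ⊔ K0 := by
    intro g hg
    obtain ⟨a, ⟨ha, hag⟩, -⟩ := T.regS t ht (g • t0 : Jv H) (g • t0).2.1 hto (g • t0).2.2
    set A : H := ⟨a, T.S_le_H ha⟩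
    have hAt : A • t0 = g • t0 := Subtype.ext hag
    have hk : A⁻¹ * g ∈ K0 := (hK0 _).2 fun u => by
      obtain ⟨σ, ⟨hσ, hσu⟩, -⟩ := T.regS t ht u u.2.1 hto u.2.2
      set B : H := ⟨σ, T.S_le_H hσ⟩
      have hBt : B • t0 = u := Subtype.ext hσu
      have hAB : A * B = B * A := Subtype.ext (T.comm_S ha hσ)
      rw [mul_smul, inv_smul_eq_iff, ← hBt]
      calc g • B • t0 = (g * B * g⁻¹ * B⁻¹) • B • g • t0 := by
            rw [smul_smul, smul_smul, smul_smul]; congr 1; group
        _ = B • g • t0 := hcom g hg B (hSN hσ) _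
        _ = A • B • t0 := by rw [← hAt, smul_smul, smul_smul, hAB]
    have := mul_mem (mem_sup_left (T := K0) (show A ∈ S' from ha)) (mem_sup_right (S := S') hk)
    simpa using this
  set M := S' ⊔ K0 with hM
  haveI hMn : M.Normal := by
    have e : M = N ⊔ K0 := le_antisymm (sup_le_sup_right hSN K0) (sup_le hN le_sup_right)
    rw [e]
    infer_instance
  obtain ⟨p, hp, hpm⟩ := Nat.exists_prime_and_dvd (show Nat.card S ≠ 1 from by have := T.seven_le; omega)
  haveI := Fact.mk hp
  obtain ⟨Q⟩ : Nonempty (Sylow p S') := inferInstance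
  set P : Subgroup H := (Q : Subgroup S').map S'.subtype with hP
  have hPS : P ≤ S' := map_subtype_le _
  have hPp : IsPGroup p P := Q.2.map _
  have hP1 : ∃ a ∈ P, a ≠ 1 := by
    have hd : p ∣ Nat.card (Q : Subgroup S') := by
      refine Q.dvd_card_of_dvd_card ?_
      rw [T.card_S_H]; exact hpm
    obtain ⟨a, ha⟩ := exists_prime_orderOf_dvd_card' p hd
    exact ⟨_, ⟨_, a.2, rfl⟩, fun e => hp.ne_one (by
      rw [← ha, orderOf_eq_one_iff.2 (Subtype.ext (Subtype.ext e : (a : S') = 1))])⟩
  -- `p` does not divide the order of the kernel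
  have hpK0 : ¬ p ∣ Nat.card K0 := by
    letI : MulAction P K0 :=
      { smul := fun a k => ⟨(a : H) * k * (a : H)⁻¹, (inferInstance : K0.Normal).conj_mem _ k.2 _⟩
        one_smul := fun k => Subtype.ext (show (1 : H) * k * (1 : H)⁻¹ = k by group)
        mul_smul := fun a b k => Subtype.ext (show (a : H) * b * k * ((a : H) * b)⁻¹ =
          a * (b * k * (b : H)⁻¹) * (a : H)⁻¹ by group) }
    have hfix : Nat.card (MulAction.fixedPoints P K0) = 1 := by
      refine Nat.card_eq_one_iff_exists.2 ⟨⟨1, fun a => Subtype.ext (show (a : H) * 1 * (a : H)⁻¹ = 1 by group)⟩,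
        fun k => Subtype.ext ?_⟩
      obtain ⟨a, ha, ha1⟩ := hP1
      have h1 : a * (k.1 : H) * a⁻¹ = k.1 := congrArg Subtype.val (k.2 ⟨a, ha⟩)
      have h2 : Commute ((k.1 : H) : G) (a : G) :=
        (show Commute (a : G) ((k.1 : H) : G) from congrArg Subtype.val (mul_inv_eq_iff_eq_mul.1 h1)).symm
      have h3 : ((k.1 : H) : G) ∈ S := by
        rw [← T.cent (a : G) (hPS ha) (fun e => ha1 (Subtype.ext e))]
        exact mem_centralizer_singleton_iff.2 h2.eq
      exact Subtype.ext (hK0D _ (mem_sup_left h3) k.1.2)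
    intro hd
    have h := IsPGroup.card_modEq_card_fixedPoints hPp K0
    rw [hfix] at h
    have h0 : Nat.card K0 ≡ 0 [MOD p] := Nat.modEq_zero_iff_dvd.2 hd
    exact hp.one_lt.ne' (Nat.dvd_one.1 (Nat.modEq_zero_iff_dvd.1 (h.symm.trans h0)))
  -- a Sylow subgroup of `M`
  have hPM : P ≤ M := hPS.trans le_sup_left
  have hidx : ¬ p ∣ (P.subgroupOf M).index := by
    have hSM : Nat.card M ∣ Nat.card S' * Nat.card K0 :=
      CfsgLib.Coprime.card_sup_dvd_of_le_normalizer (K0.normalizer_eq_top ▸ le_top)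
    have hc := (P.subgroupOf M).card_mul_index
    rw [Nat.card_congr (subgroupOfEquivOfLe hPM).toEquiv] at hc
    rw [← hc, hP, card_map_of_injective S'.subtype_injective, ← (Q : Subgroup S').card_mul_index,
      mul_assoc] at hSM
    intro hd
    rcases hp.dvd_mul.1 (hd.trans (Nat.dvd_of_mul_dvd_mul_left Nat.card_pos hSM)) with h | h
    exacts [Q.not_dvd_index h, hpK0 h]
  let PM : Sylow p M := (hPp.of_equiv (subgroupOfEquivOfLe hPM).symm).toSylow hidx
  have hmap : (PM : Subgroup M).map M.subtype = P := by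
    show (P.subgroupOf M).map M.subtype = P
    rw [subgroupOf_map_subtype, inf_eq_left.2 hPM]
  have htop : normalizer (P : Set H) ⊔ M = ⊤ := by
    rw [← hmap]; exact Sylow.normalizer_sup_eq_top PM
  have hND : ∀ g ∈ normalizer (P : Set H), (g : G) ∈ S ⊔ R := by
    intro g hg
    obtain ⟨a, ha, ha1⟩ := hP1
    have hb : g⁻¹ * a * g⁻¹⁻¹ ∈ P := (mem_normalizer_iff.1 (inv_mem hg) a).1 ha
    have hbx : (((g : G)⁻¹ * a * (g : G)) • x) = x := by
      have := (T.S_le (hPS hb)).2
      simpa using this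
    rcases T.fix (a : G) (hPS ha) (fun e => ha1 (Subtype.ext e)) ((g : G) • x) (by
      conv_rhs => rw [← hbx]
      simp [smul_smul, mul_assoc]) with h | h
    · exact absurd h (T.x_moved g.2)
    · exact T.mem_D g.2 h
  obtain ⟨g, hg, ⟨j, hj⟩, u, hu, huo, hgu⟩ := heven
  let q := QuotientGroup.mk' K0
  obtain ⟨d, hd, hdq⟩ : ∃ d : H, (d : G) ∈ S ⊔ R ∧ q d = q ⟨g, hg⟩ := by
    have hmem : (⟨g, hg⟩ : H) ∈ normalizer (P : Set H) ⊔ M := by rw [htop]; exact mem_top _
    have hle : normalizer (P : Set H) ⊔ M ≤ (((S ⊔ R).subgroupOf H).map q).comap q := by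
      refine sup_le (fun y hy => ⟨y, hND y hy, rfl⟩) (sup_le (fun y hy => ⟨y, mem_sup_left hy, rfl⟩) fun y hy => ?_)
      exact ⟨1, one_mem _, by rw [map_one]; exact ((QuotientGroup.eq_one_iff y).2 hy).symm⟩
    obtain ⟨d, hd, e⟩ := hle hmem
    exact ⟨d, hd, e⟩
  have h1 : orderOf (q d) ∣ orderOf (d : G) := Subgroup.orderOf_coe d ▸ orderOf_map_dvd q d
  have h2 : orderOf (q d) ∣ 2 ^ j := by
    rw [hdq]
    refine (orderOf_map_dvd q _).trans (orderOf_dvd_of_pow_eq_one (Subtype.ext ?_))
    simpa using hj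
  have h3 : q ⟨g, hg⟩ = 1 := by
    rw [← hdq, ← orderOf_eq_one_iff]
    exact Nat.eq_one_of_dvd_coprimes ((Nat.coprime_two_right.2 (T.odd_orderOf_D hd)).pow_right j) h1 h2
  exact hgu ((smul_eq_iff ⟨g, hg⟩ ⟨u, hu, huo⟩).1 ((hK0 _).1 ((QuotientGroup.eq_one_iff _).1 h3) _))

/-- The reduced permutation character is irreducible for primes at least five. -/
theorem norm_eta_five [Fintype H] (hs5 : 5 ≤ s) (heven : Even' H) :
    classInner (eta H) (eta H) = 1 := by
  classical
  by_contra hnorm
  set S' := S.subgroupOf H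
  have hS : Mult.SelfCent S' := T.selfCent_H
  haveI := Fintype.ofFinite (IrrCharacter H)
  haveI := Mult.finite_dual hS
  haveI := Fintype.ofFinite (S' →* ℂˣ)
  obtain ⟨k, μ, hμ1, hμr, hμex, hk⟩ := Mult.exists_reps hS
  rw [T.card_normalizer_H, T.card_S_H] at hk
  have hks : k * s = Nat.card S - 1 := by
    have h7 := T.seven_le
    refine Nat.eq_of_mul_eq_mul_right (show 0 < Nat.card S by omega) ?_
    rw [← hk]; ring
  have hm : Nat.card S = 2 ^ s - 1 := T.cardS
  have hbig : s * s + s + 2 ≤ 2 ^ s := by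
    clear * - hs5
    induction s, hs5 using Nat.le_induction with
    | base => norm_num
    | succ n hn ih => rw [pow_succ]; nlinarith
  have hk3 : 3 ≤ k := by
    by_contra hk3
    have : k * s ≤ 2 * s := Nat.mul_le_mul_right s (by omega)
    have hss : 5 * s ≤ s * s := Nat.mul_le_mul_right s hs5
    clear hk
    omega
  set i₀ : Fin k := ⟨0, by omega⟩
  obtain ⟨ε, θ, hε, hθi, hθc, hθind⟩ := Mult.exists_exceptional hS μ i₀ hμ1 hμr
  have hη := T.isCharacter_eta
  choose y hy using fun χ : IrrCharacter H => classInner_char_irr_nat hη χ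
  have hβ : ∀ a : S', a ≠ 1 → eta H (a : H) = -1 := fun a ha =>
    T.eta_S _ a.2 (fun e => ha (Subtype.ext e))
  -- multiplicities in `eta`
  have hsum : ∀ ν : S' →* ℂˣ, classInner (Mult.res S' (eta H)) (lc ν) =
      ((∑ χ : IrrCharacter H, (y χ : ℤ) * Mult.mult S' χ ν : ℤ) : ℂ) := by
    intro ν
    have e : Mult.res S' (eta H) =
        ∑ χ : IrrCharacter H, classInner (eta H) (χ : H → ℂ) • Mult.res S' (χ : H → ℂ) := funext fun a => by
      conv_lhs => rw [Mult.res, classFun_expand (isClassFunction_eta H)]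
      simp [Finset.sum_apply, Mult.res]
    rw [e, classInner_sum_left, Int.cast_sum]
    refine Finset.sum_congr rfl fun χ _ => ?_
    rw [classInner_smul_left, hy, (Mult.mult_spec hS χ ν).1]
    push_cast
    rfl
  have hreg : ∀ ν : S' →* ℂˣ, classInner (Mult.res S' (eta H)) (lc ν) = if ν = 1 then 0 else 1 := by
    intro ν
    have e : Mult.res S' (eta H) = (fun a : S' => if a = 1 then (Nat.card S : ℂ) else 0) - lc 1 :=
      funext fun a => by
        by_cases ha : a = 1
        · subst ha; simp [Mult.res, lc, T.eta_one]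
        · simp [Mult.res, lc, ha, hβ a ha]
    rw [e, classInner_sub_left, classInner_lc, classInner, Finset.sum_eq_single (1 : S')]
    · have hne : (Nat.card S : ℂ) ≠ 0 := by exact_mod_cast Nat.card_pos.ne'
      rw [T.card_S_H]
      rcases eq_or_ne ν 1 with rfl | hν
      · simp [lc, hne]
      · simp [hν, Ne.symm hν, lc, hne]
    · intro a _ ha; simp [ha]
    · simp
  have hr : ∀ χ : IrrCharacter H, y χ ≠ 0 → Mult.mult S' χ 1 = 0 := by
    intro χ hχ
    have h := (hsum 1).symm.trans (hreg 1)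
    rw [if_pos rfl] at h
    have h' : ∑ χ : IrrCharacter H, (y χ : ℤ) * Mult.mult S' χ 1 = 0 := by exact_mod_cast h
    have := (Finset.sum_eq_zero_iff_of_nonneg fun ψ _ => mul_nonneg (Int.natCast_nonneg _)
      (Mult.mult_spec hS ψ 1).2).1 h' χ (Finset.mem_univ _)
    simpa [hχ] using this
  have hone : ∀ i, ∑ χ : IrrCharacter H, (y χ : ℤ) * Mult.mult S' χ (μ i) = 1 := fun i => by
    have h := (hsum (μ i)).symm.trans (hreg (μ i))
    rw [if_neg (hμ1 i)] at h
    exact_mod_cast h
  have horbit : ∀ χ : IrrCharacter H, ∀ ν, ν ≠ 1 → ∃ i, Mult.mult S' χ ν = Mult.mult S' χ (μ i) := by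
    intro χ ν hν
    obtain ⟨i, z, rfl⟩ := hμex ν hν
    exact ⟨i, Mult.mult_twist hS χ z (μ i)⟩
  -- the constituents are exceptional
  have hexc : ∀ χ : IrrCharacter H, y χ ≠ 0 → ∃ i, χ = θ i := by
    intro χ hχ
    by_contra hcon
    push Not at hcon
    have hc : ∀ i, Mult.mult S' χ (μ i) = Mult.mult S' χ (μ i₀) := fun i => by
      have h := hθc i χ
      rw [if_neg (hcon i), if_neg (hcon i₀), sub_zero, mul_zero] at h
      exact sub_eq_zero.1 h
    have hc1 : 1 ≤ Mult.mult S' χ (μ i₀) := by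
      rcases (Mult.mult_spec hS χ (μ i₀)).2.lt_or_eq with h | h
      · omega
      · exfalso
        refine irr_one_ne_zero χ ?_
        rw [Mult.degree_eq hS χ, Finset.sum_eq_zero, Int.cast_zero]
        intro ν _
        by_cases hν : ν = 1
        · rw [hν, hr χ hχ]
        · obtain ⟨i, hi⟩ := horbit χ ν hν
          rw [hi, hc i, h]
    -- then `χ` is the only constituent
    refine hnorm ?_
    have hle : ∀ i, (y χ : ℤ) * Mult.mult S' χ (μ i) ≤ 1 := fun i => by
      rw [← hone i]
      exact Finset.single_le_sum (f := fun ψ => (y ψ : ℤ) * Mult.mult S' ψ (μ i))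
        (fun ψ _ => mul_nonneg (Int.natCast_nonneg _) (Mult.mult_spec hS ψ _).2) (Finset.mem_univ χ)
    have hy1 : (y χ : ℤ) = 1 ∧ Mult.mult S' χ (μ i₀) = 1 := by
      have h1 := hle i₀
      have h2 : (1 : ℤ) ≤ y χ := by exact_mod_cast Nat.one_le_iff_ne_zero.2 hχ
      constructor <;> nlinarith
    have hothers : ∀ ψ : IrrCharacter H, ψ ≠ χ → y ψ = 0 := by
      intro ψ hψ
      by_contra hne
      have hzero : ∀ i, Mult.mult S' ψ (μ i) = 0 := by
        intro i
        have h := hone i
        rw [← Finset.add_sum_erase _ _ (Finset.mem_univ χ), hy1.1, hc i, hy1.2, one_mul, add_eq_left] at h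
        have := (Finset.sum_eq_zero_iff_of_nonneg fun φ _ => mul_nonneg (Int.natCast_nonneg _)
          (Mult.mult_spec hS φ _).2).1 h ψ (Finset.mem_erase.2 ⟨hψ, Finset.mem_univ _⟩)
        simpa [hne] using this
      refine irr_one_ne_zero ψ ?_
      rw [Mult.degree_eq hS ψ, Finset.sum_eq_zero, Int.cast_zero]
      intro ν _
      by_cases hν : ν = 1
      · rw [hν, hr ψ hne]
      · obtain ⟨i, hi⟩ := horbit ψ ν hν
        rw [hi, hzero i]
    have he : eta H = (χ : H → ℂ) := by
      rw [classFun_expand (isClassFunction_eta H), Finset.sum_eq_single χ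
        (fun ψ _ hψ => by rw [hy, hothers ψ hψ, Nat.cast_zero, zero_smul]) (by simp), hy,
        show y χ = 1 from by exact_mod_cast hy1.1, Nat.cast_one, one_smul]
    rw [he]
    exact classInner_irr_self χ
  -- all coefficients are equal
  have hysame : ∀ i, y (θ i) = y (θ i₀) := by
    intro i
    have h : classInner (eta H) (indFun S' (lc (μ i) - lc (μ i₀))) = 0 :=
      Mult.inner_ind_sub hS (isClassFunction_eta H) hβ (hμ1 i) (hμ1 i₀)
    rw [hθind i, classInner_smul_right, classInner_sub_right, hy, hy, map_intCast] at h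
    rcases mul_eq_zero.1 h with h0 | h0
    · rcases hε with e | e <;> simp [e] at h0
    · exact_mod_cast sub_eq_zero.1 h0
  have hy0 : y (θ i₀) ≠ 0 := by
    intro h0
    have h := hone i₀
    rw [Finset.sum_eq_zero] at h
    · omega
    · intro χ _
      by_cases hχ : y χ = 0
      · simp [hχ]
      · obtain ⟨i, rfl⟩ := hexc χ hχ
        exact absurd ((hysame i).trans h0) hχ
  have hone' : ∀ j, ∑ i, (y (θ i) : ℤ) * Mult.mult S' (θ i) (μ j) = 1 := by
    intro j
    rw [← hone j, ← Finset.sum_image (f := fun χ => (y χ : ℤ) * Mult.mult S' χ (μ j)) hθi.injOn]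
    refine Finset.sum_subset (Finset.subset_univ _) fun χ _ hχ => ?_
    by_cases h0 : y χ = 0
    · simp [h0]
    · obtain ⟨i, rfl⟩ := hexc χ h0
      exact absurd (Finset.mem_image_of_mem θ (Finset.mem_univ i)) hχ
  have hy1 : ∀ i, y (θ i) = 1 := by
    intro i
    have h := hone' i₀
    simp only [hysame] at h
    rw [← Finset.mul_sum] at h
    have := Int.eq_one_of_mul_eq_one_right (Int.natCast_nonneg _) h
    rw [hysame i]
    exact_mod_cast this
  simp only [hy1, Nat.cast_one, one_mul] at hone'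
  -- off-diagonal multiplicities vanish
  have hdiag : ∀ i j, i ≠ j → Mult.mult S' (θ i) (μ j) = 0 := by
    intro i j hij
    by_contra hne
    obtain ⟨l, hli, hlj⟩ : ∃ l : Fin k, l ≠ i ∧ l ≠ j := by
      by_contra hcon
      push Not at hcon
      have hsub : (Finset.univ : Finset (Fin k)) ⊆ {i, j} := fun l _ => by
        by_cases h : l = i
        · simp [h]
        · simp [hcon l h]
      have := (Finset.card_le_card hsub).trans Finset.card_le_two
      rw [Finset.card_univ, Fintype.card_fin] at this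
      omega
    have h1 : ∀ j' i', 1 ≤ Mult.mult S' (θ i') (μ j') → ∀ i'', i'' ≠ i' → Mult.mult S' (θ i'') (μ j') = 0 := by
      intro j' i' h i'' hne'
      have hs' := hone' j'
      rw [← Finset.add_sum_erase _ _ (Finset.mem_univ i')] at hs'
      have hle := Finset.single_le_sum (f := fun a => Mult.mult S' (θ a) (μ j'))
        (fun a _ => (Mult.mult_spec hS _ _).2) (Finset.mem_erase.2 ⟨hne', Finset.mem_univ i''⟩)
      have := (Mult.mult_spec hS (θ i'') (μ j')).2
      omega
    have hnn := (Mult.mult_spec hS (θ i) (μ j)).2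
    have hconst : Mult.mult S' (θ i) (μ l) = Mult.mult S' (θ i) (μ j) := by
      have e1 := hθc l (θ i)
      have e2 := hθc j (θ i)
      rw [if_neg (fun e => hli (hθi e).symm)] at e1
      rw [if_neg (fun e => hij (hθi e))] at e2
      linarith
    have hzj := h1 j i (by omega) l hli
    have hzl := h1 l i (by omega) l hli
    have e1 := hθc l (θ l)
    have e2 := hθc j (θ l)
    rw [if_pos rfl] at e1
    rw [if_neg (fun e => hlj (hθi e))] at e2
    rcases hε with rfl | rfl <;> linarith
  have hθS : ∀ i ν, Mult.mult S' (θ i) ν = if Mult.Rel (μ i) ν then 1 else 0 := by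
    intro i ν
    by_cases hν : ν = 1
    · subst hν
      rw [hr (θ i) (by rw [hy1]; norm_num), if_neg fun h => Mult.Rel.ne_one h (hμ1 i) rfl]
    obtain ⟨j, hj⟩ := hμex ν hν
    obtain ⟨z, hz⟩ := id hj
    rw [← hz, Mult.mult_twist hS]
    by_cases hij : i = j
    · subst hij
      rw [if_pos ⟨z, rfl⟩]
      have h := hone' i
      rwa [Finset.sum_eq_single i (fun a _ ha => hdiag a i ha) (by simp)] at h
    · rw [hdiag i j hij, if_neg fun h : Mult.Rel (μ i) (Mult.twist z (μ j)) =>
        hμr i j hij (Mult.Rel.equiv.trans h (Mult.Rel.equiv.symm ⟨z, rfl⟩))]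
  have horb : ∀ i, (Finset.univ.filter fun ν => Mult.Rel (μ i) ν).card = s := by
    intro i
    have h : ∑ ν : S' →* ℂˣ, ∑ z : normalizer (S' : Set H), (if Mult.twist z (μ i) = ν then (1 : ℂ) else 0) =
        (Nat.card (normalizer (S' : Set H)) : ℂ) := by
      rw [Finset.sum_comm]
      simp [Nat.card_eq_fintype_card]
    rw [Finset.sum_congr rfl fun ν _ => Mult.card_rel hS (hμ1 i), ← Finset.sum_filter, Finset.sum_const,
      nsmul_eq_mul, ← Nat.cast_mul, T.card_normalizer_H, T.card_S_H, Nat.cast_inj, mul_comm (Nat.card S)] at h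
    exact Nat.eq_of_mul_eq_mul_right (by have := T.seven_le; omega) h
  have hθdeg : ∀ i, ((θ i : H → ℂ) 1) = s := by
    intro i
    rw [Mult.degree_eq hS]
    simp only [hθS]
    rw [Finset.sum_boole, horb, Int.cast_natCast]
  -- the kernel of each constituent on the normal closure of `S`
  set N : Subgroup H := normalClosure (S' : Set H)
  have hnormN : ∀ i, classInner (fun a : N => (θ i : H → ℂ) a) (fun a : N => (θ i : H → ℂ) a) ≠ 1 := by
    intro i
    set F : H → ℂ := fun g => (θ i : H → ℂ) g * conj ((θ i : H → ℂ) g)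
    have hF : IsCharacter H F := isCharacter_mul (isCharacter_irr _) (isCharacter_conj (isCharacter_irr _))
    choose z hz using fun χ : IrrCharacter H => classInner_char_irr_nat hF χ
    choose d hd0 hd using fun χ : IrrCharacter H => isIrrCharacter_degree χ.2
    set one : IrrCharacter H := ⟨fun _ => 1, isIrrCharacter_one⟩
    have hzone : z one = 1 := by
      refine Nat.cast_injective (R := ℂ) ((hz one).symm.trans ?_)
      rw [Nat.cast_one, ← classInner_irr_self (θ i), classInner, classInner]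
      simp [F, one]
    have hexpF : F = ∑ χ : IrrCharacter H, (z χ : ℂ) • (χ : H → ℂ) := by
      conv_lhs => rw [classFun_expand (isClassFunction_of_isCharacter hF)]
      simp only [hz]
    have hF1 : ∑ χ : IrrCharacter H, z χ * d χ = s * s := by
      have h := congrFun hexpF 1
      simp only [F, hθdeg, map_natCast] at h
      simp only [Finset.sum_apply, Pi.smul_apply, smul_eq_mul, hd] at h
      exact_mod_cast h.symm
    have hFS : ((∑ χ : IrrCharacter H, (z χ : ℤ) * Mult.mult S' χ 1 : ℤ) : ℂ) = s := by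
      have e1 : classInner (Mult.res S' F) (lc (1 : S' →* ℂˣ)) =
          ((∑ χ : IrrCharacter H, (z χ : ℤ) * Mult.mult S' χ 1 : ℤ) : ℂ) := by
        have e : Mult.res S' F = ∑ χ : IrrCharacter H, (z χ : ℂ) • Mult.res S' (χ : H → ℂ) := funext fun a => by
          conv_lhs => rw [Mult.res, hexpF]
          simp [Finset.sum_apply, Mult.res]
        rw [e, classInner_sum_left, Int.cast_sum]
        refine Finset.sum_congr rfl fun χ _ => ?_
        rw [classInner_smul_left, (Mult.mult_spec hS χ 1).1]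
        push_cast
        rfl
      have e2 : classInner (Mult.res S' F) (lc (1 : S' →* ℂˣ)) =
          classInner (Mult.res S' (θ i : H → ℂ)) (Mult.res S' (θ i : H → ℂ)) := by
        simp [classInner, Mult.res, F, lc]
      have e3 : Mult.res S' (θ i : H → ℂ) =
          ∑ ν ∈ Finset.univ.filter (fun ν => Mult.Rel (μ i) ν), lc ν := by
        have hcomm : ∀ a b : S', a * b = b * a := fun a b => Subtype.ext (hS.comm a a.2 b b.2)
        have hcl : IsClassFunction S' (Mult.res S' (θ i : H → ℂ)) :=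
          isClassFunction_of_isCharacter (isCharacter_comp (isCharacter_irr _) S'.subtype)
        refine classFun_ext hcl (fun a b => by rw [hcomm b a, mul_inv_cancel_right]) fun ψ => ?_
        obtain ⟨lam, hlam⟩ := (linearCharEquiv (G := S')).surjective ⟨ψ, degree_one_of_comm hcomm ψ⟩
        have hψ : (ψ : S' → ℂ) = lc lam :=
          (congrArg (fun q => ((q.1 : IrrCharacter S') : S' → ℂ)) hlam).symm
        rw [hψ, (Mult.mult_spec hS _ lam).1, hθS, classInner_sum_left]
        simp only [classInner_lc, Finset.sum_ite_eq']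
        simp
      rw [← e1, e2, e3, classInner_sum_left]
      simp only [classInner_sum_right, classInner_lc, Finset.sum_ite_eq]
      rw [Finset.sum_congr rfl (g := fun _ => (1 : ℂ)) fun ν hν => by rw [if_pos hν], Finset.sum_const,
        horb, nsmul_eq_mul, mul_one]
    obtain ⟨χ, hχne, hzχ, hrχ⟩ : ∃ χ, χ ≠ one ∧ z χ ≠ 0 ∧ Mult.mult S' χ 1 ≠ 0 := by
      by_contra hcon
      push Not at hcon
      have h' : ∑ χ : IrrCharacter H, (z χ : ℤ) * Mult.mult S' χ 1 = s := by exact_mod_cast hFS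
      rw [Finset.sum_eq_single one (fun χ _ hχ => ?_) (by simp), hzone] at h'
      · have : Mult.mult S' one 1 = 1 := by
          refine Int.cast_injective (α := ℂ) ((Mult.mult_spec hS one 1).1.symm.trans ?_)
          rw [classInner]
          simp [Mult.res, one, lc, Nat.card_eq_fintype_card]
        rw [this] at h'
        omega
      · by_cases hz0 : z χ = 0
        · simp [hz0]
        · simp [hcon χ hχ hz0]
    have hnθ : ∀ j, χ ≠ θ j := fun j e => hrχ (e ▸ hr (θ j) (by rw [hy1]; norm_num))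
    have hcall : ∀ j, Mult.mult S' χ (μ j) = Mult.mult S' χ (μ i₀) := fun j => by
      have h := hθc j χ
      rw [if_neg (hnθ j), if_neg (hnθ i₀), sub_zero, mul_zero] at h
      exact sub_eq_zero.1 h
    set r := Mult.mult S' χ 1
    set c := Mult.mult S' χ (μ i₀)
    have hdeg : (d χ : ℤ) = r + ((Nat.card S : ℤ) - 1) * c := by
      have h := Mult.degree_eq hS χ
      rw [hd, ← Finset.add_sum_erase _ _ (Finset.mem_univ (1 : S' →* ℂˣ))] at h
      rw [Finset.sum_congr rfl (g := fun _ => c) fun ν hν => by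
        obtain ⟨j, hj⟩ := horbit χ ν (Finset.mem_erase.1 hν).1
        rw [hj, hcall j], Finset.sum_const, Finset.card_erase_of_mem (Finset.mem_univ _), Finset.card_univ,
        ← Nat.card_eq_fintype_card, (Mult.card_dual hS.comm).1, T.card_S_H, nsmul_eq_mul] at h
      have h' : (d χ : ℤ) = r + ((Nat.card S - 1 : ℕ) : ℤ) * c := by exact_mod_cast h
      rw [h', Nat.cast_sub Nat.card_pos, Nat.cast_one]
    have hbud := Mult.sum_sq hS (μ := μ i₀) (hμ1 i₀)
    rw [T.card_normalizer_H, T.card_S_H] at hbud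
    have hsq : (r - c) ^ 2 ≤ (s : ℤ) + 1 := by
      refine (Finset.single_le_sum (f := fun ψ => (Mult.mult S' ψ 1 - Mult.mult S' ψ (μ i₀)) ^ 2)
        (fun ψ _ => sq_nonneg _) (Finset.mem_univ χ)).trans (le_of_eq ?_)
      have hm0 : (Nat.card S : ℤ) ≠ 0 := by exact_mod_cast Nat.card_pos.ne'
      refine mul_left_cancel₀ hm0 (hbud.trans ?_)
      push_cast
      ring
    have hrpos : 1 ≤ r := by
      have := (Mult.mult_spec hS χ 1).2
      omega
    have hdle : d χ + 1 ≤ s * s := by
      rw [← hF1]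
      have h1 : d χ ≤ z χ * d χ := Nat.le_mul_of_pos_left _ (Nat.pos_of_ne_zero hzχ)
      have h2 : z χ * d χ + z one * d one ≤ ∑ ψ : IrrCharacter H, z ψ * d ψ := by
        rw [← Finset.sum_pair (f := fun ψ => z ψ * d ψ) hχne]
        exact Finset.sum_le_sum_of_subset (Finset.subset_univ _)
      have := hd0 one
      rw [hzone, one_mul] at h2
      omega
    have hc0 : c = 0 := by
      by_contra hcne
      have hc1 : 1 ≤ c := by
        have := (Mult.mult_spec hS χ (μ i₀)).2
        omega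
      have hlow : -((s : ℤ) + 1) ≤ r - c := by nlinarith
      have h2 : (Nat.card S : ℤ) * 1 ≤ (Nat.card S : ℤ) * c :=
        mul_le_mul_of_nonneg_left hc1 (Int.natCast_nonneg _)
      have hS2 : ((Nat.card S : ℕ) : ℤ) + 1 ≥ (s : ℤ) * s + s + 2 := by
        have h3 : s * s + s + 2 ≤ Nat.card S + 1 := by rw [hm]; omega
        exact_mod_cast h3
      have hdle' : (d χ : ℤ) + 1 ≤ (s : ℤ) * s := by exact_mod_cast hdle
      nlinarith
    refine two_le_norm_restrict (θ i) χ N (fun e => hχne (Subtype.ext e)) (fun a => ?_)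
      (by rw [hz]; exact_mod_cast hzχ)
    obtain ⟨M, hMn, hM⟩ := exists_charKer χ
    refine (hM _).1 (normalClosure_le_normal (N := M) (fun b hb => (hM b).2 ?_) a.2)
    refine eq_one_of_inner_eq χ S' ?_ ⟨b, hb⟩
    have h1 := (Mult.mult_spec hS χ (1 : S' →* ℂˣ)).1
    refine h1.trans ?_
    rw [hd, show Mult.mult S' χ 1 = (d χ : ℤ) by rw [hdeg, hc0]; ring, Int.cast_natCast]
  refine T.false_of_normal heven N subset_normalClosure fun a ha b hb u => ?_
  have hval : eta H (a * b * a⁻¹ * b⁻¹) = eta H 1 := by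
    have hexp : eta H = ∑ χ : IrrCharacter H, (y χ : ℂ) • (χ : H → ℂ) := by
      conv_lhs => rw [classFun_expand (isClassFunction_eta H)]
      simp only [hy]
    rw [hexp]
    simp only [Finset.sum_apply, Pi.smul_apply, smul_eq_mul]
    refine Finset.sum_congr rfl fun χ _ => ?_
    by_cases h0 : y χ = 0
    · simp [h0]
    · obtain ⟨i, rfl⟩ := hexc χ h0
      rw [commutator_in_kernel T.prime (θ i) (hθdeg i) N (hnormN i) ⟨a, ha⟩ ⟨b, hb⟩]
  rw [T.eta_one, eta, permChar, sub_left_inj] at hval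
  have hc : Nat.card (MulAction.fixedBy (Jv H) (a * b * a⁻¹ * b⁻¹)) = Nat.card (Jv H) := by
    rw [T.card_Jv]; exact_mod_cast hval
  obtain ⟨v, hv⟩ := ((Nat.bijective_iff_injective_and_card
    (Subtype.val : MulAction.fixedBy (Jv H) (a * b * a⁻¹ * b⁻¹) → Jv H)).2 ⟨Subtype.val_injective, hc⟩).2 u
  exact hv ▸ v.2

/-- **`H` is doubly transitive on its involutions**: the reduced permutation character has norm one. -/
theorem norm_eta [Fintype H] (heven : Even' H) : classInner (eta H) (eta H) = 1 := by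
  rcases lt_or_ge s 5 with hlt | hge
  · have h3 : s = 3 := by
      have hp := T.prime
      have h2 := T.odd
      have h4 := T.three_le
      interval_cases s
      · rfl
      · exact absurd hp (by decide)
    haveI := T.pretransitive
    have hX : 2 ≤ Nat.card (Jv H) := by
      rw [T.card_Jv]; have := T.seven_le; omega
    exact classInner_irr_self
      ⟨_, (isIrr_permChar_sub_one_iff (Jv H) hX).2 (T.two_trans_three h3 heven)⟩
  · exact T.norm_eta_five hge heven

end Torus

end CfsgLib.Bender.Full.Hole
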